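import Groth.Agent.L17.RatTrace.Crit
import Groth.Agent.L29.BC.Affine
import Groth.Agent.L29.BC.AdjCoprod
import Groth.Agent.L29.BC.AdjTensor
import Groth.Agent.L29.BC.SupportPush
import Groth.Agent.L29.BCAdj.HomFlat
import Groth.Agent.L10.ShriekLoc.EndAffine
import Groth.Agent.L10.ShriekLoc.Dualizing
import Groth.Agent.S1823

/-!
Over an affine base: the trace at a dualizing complex is invertible iff the structure sheaf is its own derived direct
image.
-/

set_option autoImplicit false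
set_option linter.style.haveILetI false
set_option backward.defeqAttrib.useBackward true
set_option backward.isDefEq.respectTransparency false
set_option backward.isDefEq.respectTransparency.types false

universe u

open CategoryTheory CategoryTheory.Limits CategoryTheory.Pretriangulated AlgebraicGeometry

open ZeroObject

attribute [local instance] HasDerivedCategory.standard

noncomputable section

namespace Groth.L17.RatTrace

open Groth.L00 Groth.L29 Groth.L29.DC Groth.L29.BCAdj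

variable {X Y : Scheme.{u}} {f : X ⟶ Y} [DCoh.HasRpush f] [DCoh.HasLpull f]

section Adjoint

variable {hf : DCoh.RpushPreservesQCoh f} {a : DCoh.DQCoh Y ⥤ DCoh.DQCoh X}
  (adj : DCoh.RpushQ f hf ⊣ a) (K : DCoh.DQCoh Y)

/-- the unit of `Lf^* ⊣ Rf_*` -/
abbrev cU (P : DCoh.D Y) : P ⟶ (DCoh.Rpush f).obj ((DCoh.Lpull f).obj P) := (BC.adj f).unit.app P

/-- composition with the trace corresponds to precomposition with the unit -/
theorem bijective_trace_iff (P : DCoh.D Y) (hP : DCoh.IsQCohD ((DCoh.Lpull f).obj P)) :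
    Function.Bijective (fun φ : P ⟶ ((DCoh.RpushQ f hf).obj (a.obj K)).obj => φ ≫ (adj.counit.app K).hom) ↔
      Function.Bijective (fun χ : (DCoh.Rpush f).obj ((DCoh.Lpull f).obj P) ⟶ K.obj => cU (f := f) P ≫ χ) := by
  let M : DCoh.DQCoh X := ⟨(DCoh.Lpull f).obj P, hP⟩
  let Φ : (P ⟶ (DCoh.Rpush f).obj (a.obj K).obj) ≃ ((DCoh.Rpush f).obj ((DCoh.Lpull f).obj P) ⟶ K.obj) :=
    ((BC.adj f).homEquiv P (a.obj K).obj).symm.trans ((homQ (K := M) (M := a.obj K)).symm.trans
      ((adj.homEquiv M K).symm.trans homQ))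
  have key : ∀ φ, φ ≫ (adj.counit.app K).hom = cU (f := f) P ≫ Φ φ := fun φ => by
    obtain ⟨ψ, rfl⟩ := ((BC.adj f).homEquiv P (a.obj K).obj).surjective φ
    simp only [Φ, Equiv.trans_apply, Equiv.symm_apply_apply]
    rw [Adjunction.homEquiv_counit, Adjunction.homEquiv_unit]
    exact Category.assoc _ _ _
  have he : (fun φ : P ⟶ ((DCoh.RpushQ f hf).obj (a.obj K)).obj => φ ≫ (adj.counit.app K).hom) =
      (fun χ : (DCoh.Rpush f).obj ((DCoh.Lpull f).obj P) ⟶ K.obj => cU (f := f) P ≫ χ) ∘ Φ := funext key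
  rw [he]
  exact Φ.bijective_comp _

end Adjoint

/-- A cone is zero once precomposition with the first map is bijective and the third receives no maps. -/
theorem hom_cone_eq_zero {C : Type*} [Category C] [Preadditive C] [HasZeroObject C] [HasShift C ℤ]
    [∀ n : ℤ, (shiftFunctor C n).Additive] [Pretriangulated C] {T : Triangle C} (hT : T ∈ distTriang C) (K : C)
    (h : ∀ m : ℤ, Function.Bijective (fun χ : T.obj₂ ⟶ K⟦m⟧ => T.mor₁ ≫ χ)) (m : ℤ) (ψ : T.obj₃ ⟶ K⟦m⟧) :
    ψ = 0 := by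
  have h2 : T.mor₂ ≫ ψ = 0 := (h m).1 (by
    simp only [comp_zero]
    rw [reassoc_of% (comp_distTriang_mor_zero₁₂ _ hT), zero_comp])
  obtain ⟨ω, rfl⟩ := Triangle.yoneda_exact₃ _ hT ψ h2
  let adj := (shiftEquiv C (1 : ℤ)).toAdjunction
  obtain ⟨ω₁, hω₁⟩ := (h (m + -1)).2
    (adj.homEquiv _ _ ω ≫ ((shiftFunctorAdd C m (-1)).app K).inv)
  have hω : ω = (adj.homEquiv _ _).symm (T.mor₁ ≫ ω₁ ≫ ((shiftFunctorAdd C m (-1)).app K).hom) := by
    rw [← Category.assoc, show T.mor₁ ≫ ω₁ = _ from hω₁, Category.assoc, Iso.inv_hom_id, Category.comp_id,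
      Equiv.symm_apply_apply]
  rw [hω, Adjunction.homEquiv_naturality_left_symm, ← Category.assoc]
  change (T.mor₃ ≫ T.mor₁⟦(1 : ℤ)⟧') ≫ _ = 0
  rw [comp_distTriang_mor_zero₃₁ _ hT, zero_comp]

variable (f) in
/-- the derived direct image of the structure sheaf is the structure sheaf -/
def HasPushO : Prop := Nonempty ((DCoh.Rpush f).obj (OD X) ≅ OD Y)

section Affine

variable [IsNoetherian Y] [IsProper f]

theorem pc_Rpush_OD (m : ℤ) : DCoh.IsPseudoCoherentD m ((DCoh.Rpush f).obj (OD X)) :=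
  BC.SupportAdj.pc_Rpush_perfect f (isPerfect_of_iso
    (((SingleFunctors.evaluation _ _ 0).mapIso
      (DerivedCategory.singleFunctorsPostcompQIso X.Modules)).app (Coh.structureModule X)).symm
    BC.AdjTensor.isPerfect_O0) m

omit [IsProper f] in
/-- If `Rf_* O = O`, the unit is invertible at shifts of `O`. -/
theorem isIso_cU_of_hasPushO (e : HasPushO f) (n : ℤ) (hcoh : DCoh.IsCohD (OD Y)) :
    IsIso (cU (f := f) ((OD Y)⟦n⟧)) := by
  obtain ⟨e⟩ := e
  obtain ⟨l⟩ := nonempty_Lpull_OD f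
  letI := Gen.commShiftRpush f
  letI := BC.commShiftLpull f
  let R := DCoh.Rpush f
  let L := DCoh.Lpull f
  let P := (OD Y)⟦n⟧
  let i : R.obj ((OD X)⟦n⟧) ≅ P := (R.commShiftIso n).app (OD X) ≪≫ (shiftFunctor (DCoh.D Y) n).mapIso e
  let j : R.obj (L.obj P) ≅ P := R.mapIso ((L.commShiftIso n).app (OD Y) ≪≫ (shiftFunctor (DCoh.D X) n).mapIso l) ≪≫ i
  haveI : IsSplitMono (cU (f := f) P) := by
    have h1 : cU (f := f) P = i.inv ≫ cU (f := f) (R.obj ((OD X)⟦n⟧)) ≫ R.map (L.map i.hom) := by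
      have h := (BC.adj f).unit.naturality i.hom
      simp only [Functor.id_map, Functor.comp_map] at h
      exact (Iso.eq_inv_comp i).2 h
    haveI : IsSplitMono (cU (f := f) (R.obj ((OD X)⟦n⟧))) :=
      ⟨⟨⟨R.map ((BC.adj f).counit.app _), (BC.adj f).right_triangle_components _⟩⟩⟩
    rw [h1]; infer_instance
  rw [DerivedCategory.isIso_iff]
  intro q
  haveI : IsSplitMono ((DerivedCategory.homologyFunctor Y.Modules q).map (cU (f := f) P)) := inferInstance
  exact isIso_of_splitMono_iso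
    (Groth.L16.CohSupport.isCoh_of_iso (Groth.L10.hShiftIso (A := Y.Modules) (OD Y) n q (n + q) rfl).symm (hcoh _)) _
    ((DerivedCategory.homologyFunctor Y.Modules q).mapIso j)

end Affine

variable [∀ (U : Scheme.{u}) (j : U ⟶ Y) [IsOpenImmersion j], PreservesFiniteLimits (Scheme.Modules.restrictFunctor j)]
  [∀ (R : CommRingCat.{u}), PreservesFiniteLimits (tilde.functor R)]

/-- Over an affine base the trace at a dualizing complex is invertible iff `Rf_* O = O`. -/
theorem isIso_trace_iff [IsAffine Y] [IsNoetherian Y] [IsProper f] {hf : DCoh.RpushPreservesQCoh f}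
    {a : DCoh.DQCoh Y ⥤ DCoh.DQCoh X} (adj : DCoh.RpushQ f hf ⊣ a) (K : DCoh.DQCoh Y)
    (hK : Dual2.IsDualizingSch Y K.obj) :
    IsIso (adj.counit.app K).hom ↔ HasPushO f := by
  obtain ⟨G, hG, hgenG, ⟨g⟩⟩ := BC.exists_unit_generator Y
  have hgen : ∀ E : DCoh.D Y, DCoh.IsQCohD E → Gen.Ortho (OD Y) E → IsZero E := fun E hE ho =>
    hgenG E hE (Gen.ortho_of_iso g.symm (Iso.refl E) ho)
  have hODp : DCoh.IsPerfect (OD Y) := isPerfect_of_iso g hG
  have hcoh : DCoh.IsCohD (OD Y) := Groth.L29.CohSupp.isCohD_of_perfect hODp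
  have hLq : ∀ n : ℤ, DCoh.IsQCohD ((DCoh.Lpull f).obj ((OD Y)⟦n⟧)) := fun n =>
    isQCohD_Lpull f (PCQCoh.isQCohD_of_perfect (perfect_shift hODp n))
  refine ⟨fun hT => ?_, fun e => ?_⟩
  · letI := BC.commShiftLpull f
    letI := Gen.commShiftRpush f
    haveI : (BC.adj f).CommShift ℤ := (BC.adj f).commShift_of_rightAdjoint ℤ
    have hpre : ∀ n : ℤ, Function.Bijective fun χ => (cU (f := f) (OD Y))⟦n⟧' ≫
        (χ : ((DCoh.Rpush f).obj ((DCoh.Lpull f).obj (OD Y)))⟦n⟧ ⟶ K.obj) := fun n => by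
      have h1 := (bijective_trace_iff adj K ((OD Y)⟦n⟧) (hLq n)).1
        ⟨fun x y h => (cancel_mono (adj.counit.app K).hom).1 h,
          fun y => ⟨y ≫ inv (adj.counit.app K).hom, by simp⟩⟩
      let u : (DCoh.Rpush f).obj ((DCoh.Lpull f).obj ((OD Y)⟦n⟧)) ≅
          ((DCoh.Rpush f).obj ((DCoh.Lpull f).obj (OD Y)))⟦n⟧ :=
        (DCoh.Rpush f).mapIso (((DCoh.Lpull f).commShiftIso n).app _) ≪≫
          ((DCoh.Rpush f).commShiftIso n).app _
      have h2 : (cU (f := f) (OD Y))⟦n⟧' = cU (f := f) ((OD Y)⟦n⟧) ≫ u.hom :=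
        Adjunction.shift_unit_app (BC.adj f) n (OD Y)
      simp only [h2, Category.assoc]
      exact h1.comp (u.homFromEquiv (Z := K.obj)).symm.bijective
    obtain ⟨C, q, d, hC⟩ := distinguished_cocone_triangle (cU (f := f) (OD Y))
    have hC0 : ∀ (n : ℤ) (φ : C⟦n⟧ ⟶ K.obj), φ = 0 := fun n φ => by
      let sh := shiftEquiv' (DCoh.D Y) n (-n) (by omega)
      apply (sh.toAdjunction.homEquiv _ _).injective
      refine (hom_cone_eq_zero hC K.obj (fun m => ?_) (-n) _).trans
        (hom_cone_eq_zero hC K.obj (fun m => ?_) (-n) _).symm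
      all_goals
        let shm := (shiftEquiv' (DCoh.D Y) (-m) m (by omega)).toAdjunction
        have he : (fun χ => cU (f := f) (OD Y) ≫ χ) = (shm.homEquiv (OD Y) K.obj) ∘
            (fun χ => (cU (f := f) (OD Y))⟦-m⟧' ≫ χ) ∘ (shm.homEquiv _ K.obj).symm := funext fun χ => by
          simp only [Function.comp_apply]
          exact ((shm.homEquiv_naturality_left (cU (f := f) (OD Y)) ((shm.homEquiv _ K.obj).symm χ)).trans
            (congrArg (cU (f := f) (OD Y) ≫ ·) (Equiv.apply_symm_apply _ χ))).symm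
        have hb := (shm.homEquiv (OD Y) K.obj).bijective.comp ((hpre (-m)).comp (shm.homEquiv _ K.obj).symm.bijective)
        exact he.symm ▸ hb
    have hMq : DCoh.IsQCohD ((DCoh.Rpush f).obj ((DCoh.Lpull f).obj (OD Y))) :=
      hf _ (isQCohD_Lpull f (PCQCoh.isQCohD_of_perfect hODp))
    have hCq : DCoh.IsQCohD C := Gen.isQCohD_third _ hC (PCQCoh.isQCohD_of_perfect hODp) hMq
    obtain ⟨l⟩ := nonempty_Lpull_OD f
    have hCc : DCoh.IsCohD C := fun i => PCNoeth.coh_of_pc hCq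
      (pc_third hC (pc_of_perfect hODp _) (isPseudoCoherentD_of_iso ((DCoh.Rpush f).mapIso l.symm)
        (pc_Rpush_OD i))) i le_rfl
    let C' := DerivedCategory.Q.objPreimage C
    let eC : DCoh.toD Y C' ≅ C := DerivedCategory.Q.objObjPreimageIso C
    haveI := KFlat.hasLTensorCx C'
    haveI := RHom.hasRSheafHom C'
    obtain ⟨hRc, hbid⟩ := Groth.Agent.S1823.result Y K.obj hK C'
      (fun i => Groth.L16.CohSupport.isCoh_of_iso ((DerivedCategory.homologyFunctor _ i).mapIso eC.symm) (hCc i))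
    have hRz : IsZero ((DCoh.RSheafHom C').obj K.obj) := hgen _ (fun i => (hRc i).1) fun n φ => by
      obtain ⟨t⟩ := Groth.L10.ShriekLoc.nonempty_LTensor_OD_shift (X := Y) C' n
      apply ((DCoh.RSheafHomAdj C').homEquiv _ _).symm.injective
      rw [← cancel_epi (t ≪≫ (shiftFunctor (DCoh.D Y) n).mapIso eC).inv]
      exact (hC0 n _).trans (hC0 n _).symm
    let Z : CochainComplex Y.Modules ℤ := 0
    have hZ : IsZero Z := isZero_zero _
    haveI := KFlat.hasLTensorCx Z
    haveI := RHom.hasRSheafHom Z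
    obtain ⟨b⟩ := hbid Z ⟨(DerivedCategory.Q.map_isZero hZ).iso hRz⟩
    have hCz : IsZero C := (RHom.isZero_RSheafHom
      (fun i => ShortComplex.exact_of_isZero_X₂ _ ((HomologicalComplex.eval _ _ i).map_isZero hZ))
      K.obj).of_iso (eC.symm ≪≫ b.symm)
    haveI : IsIso (cU (f := f) (OD Y)) := (Triangle.isZero₃_iff_isIso₁ _ hC).1 hCz
    exact ⟨((DCoh.Rpush f).mapIso l).symm ≪≫ (asIso (cU (f := f) (OD Y))).symm⟩
  · refine BC.AdjCoprod.isIso_of_bijective hgen (hf _ (a.obj K).property) K.property _ fun n => ?_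
    refine (bijective_trace_iff adj K ((OD Y)⟦n⟧) (hLq n)).2 ?_
    haveI := isIso_cU_of_hasPushO e n hcoh
    exact ⟨fun x y h => (cancel_epi (cU (f := f) ((OD Y)⟦n⟧))).1 h,
      fun y => ⟨inv (cU (f := f) ((OD Y)⟦n⟧)) ≫ y, by simp⟩⟩

end Groth.L17.RatTrace
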