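import Groth.Agent.L29.BCAdj.AdjOpen

/-!
Base change of right adjoints of proper direct images along opens of the base, on bounded below objects.
-/

set_option autoImplicit false
set_option linter.style.haveILetI false
set_option backward.defeqAttrib.useBackward true
set_option backward.isDefEq.respectTransparency false
set_option backward.isDefEq.respectTransparency.types false

universe u

open CategoryTheory CategoryTheory.Limits CategoryTheory.Pretriangulated AlgebraicGeometry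

attribute [local instance] HasDerivedCategory.standard

namespace Groth.L17.RatTrace

open Groth.L00 Groth.L29 Groth.L29.DC Groth.L29.BC.Paste Groth.L29.BCAdj

variable {X Y : Scheme.{u}}

set_option maxHeartbeats 800000 in
/-- The base change map of right adjoints of a proper morphism along the inclusion of an open of the base is invertible
on bounded below objects. -/
theorem isIso_bcMap_open_below [CompactSpace X] [QuasiSeparatedSpace X] [IsNoetherian Y] {f : X ⟶ Y} [IsProper f] [DCoh.HasRpush f] (V : Y.Opens)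
    (hV : IsCompact (V : Set Y)) [DCoh.HasRpush V.ι] [DCoh.HasRpush (f ⁻¹ᵁ V).ι] [DCoh.HasRpush (f ∣_ V)]
    [DCoh.HasLpull V.ι] [DCoh.HasLpull (f ⁻¹ᵁ V).ι]
    {hf : DCoh.RpushPreservesQCoh f} {hf' : DCoh.RpushPreservesQCoh (f ∣_ V)}
    {hg : DCoh.RpushPreservesQCoh V.ι} {hg' : DCoh.RpushPreservesQCoh (f ⁻¹ᵁ V).ι}
    {hLg : Dual3.LpullPreservesQCoh V.ι} {hLg' : Dual3.LpullPreservesQCoh (f ⁻¹ᵁ V).ι}
    {a : DCoh.DQCoh Y ⥤ DCoh.DQCoh X} {a' : DCoh.DQCoh (V : Scheme.{u}) ⥤ DCoh.DQCoh (f ⁻¹ᵁ V : Scheme.{u})}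
    (adj : DCoh.RpushQ f hf ⊣ a) (adj' : DCoh.RpushQ (f ∣_ V) hf' ⊣ a')
    (e : DCoh.RpushQ (f ⁻¹ᵁ V).ι hg' ⋙ DCoh.RpushQ f hf ≅ DCoh.RpushQ (f ∣_ V) hf' ⋙ DCoh.RpushQ V.ι hg)
    (adjg : Dual3.LpullQ V.ι hLg ⊣ DCoh.RpushQ V.ι hg)
    (adjg' : Dual3.LpullQ (f ⁻¹ᵁ V).ι hLg' ⊣ DCoh.RpushQ (f ⁻¹ᵁ V).ι hg')
    (K : DCoh.DQCoh Y) (c : ℤ) (hK : K.obj.IsGE c) (hξ : IsIso (Dual3.xi adj adj' e ((Dual3.LpullQ V.ι hLg).obj K))) :
    IsIso (Dual3.bcMap adj adj' e adjg adjg' K hξ) := by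
  haveI := hξ
  haveI : (DCoh.Rpush V.ι).Full := Gen.full_push V
  haveI : (DCoh.Rpush V.ι).Faithful := Gen.faithful_push V
  haveI : (DCoh.Rpush (f ⁻¹ᵁ V).ι).Full := Gen.full_push _
  haveI : (DCoh.Rpush (f ⁻¹ᵁ V).ι).Faithful := Gen.faithful_push _
  haveI : (DCoh.RpushQ V.ι hg).Full := ⟨fun {A B} u =>
    ⟨ObjectProperty.homMk ((DCoh.Rpush V.ι).preimage u.hom), ObjectProperty.hom_ext _ (Functor.map_preimage _ _)⟩⟩
  haveI : (DCoh.RpushQ V.ι hg).Faithful := ⟨fun {A B} u v h =>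
    ObjectProperty.hom_ext _ ((DCoh.Rpush V.ι).map_injective (congrArg (·.hom) h))⟩
  haveI : (DCoh.RpushQ (f ⁻¹ᵁ V).ι hg').Full := ⟨fun {A B} u =>
    ⟨ObjectProperty.homMk ((DCoh.Rpush (f ⁻¹ᵁ V).ι).preimage u.hom),
      ObjectProperty.hom_ext _ (Functor.map_preimage _ _)⟩⟩
  haveI : (DCoh.RpushQ (f ⁻¹ᵁ V).ι hg').Faithful := ⟨fun {A B} u v h =>
    ObjectProperty.hom_ext _ ((DCoh.Rpush (f ⁻¹ᵁ V).ι).map_injective (congrArg (·.hom) h))⟩
  haveI : IsIso ((Dual3.LpullQ V.ι hLg).map (adjg.unit.app K)) :=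
    IsIso.of_isIso_fac_right (hh := IsIso.id _) (adjg.left_triangle_components K)
  let η := adjg.unit.app K
  letI := Gen.commShiftRpush f
  haveI := Gen.isTriangulated_Rpush f
  haveI : (DCoh.RpushQ f hf).IsTriangulated := by
    refine ⟨fun T hT => ?_⟩
    exact isomorphic_distinguished _ ((ObjectProperty.ι DCoh.IsQCohD ⋙ DCoh.Rpush f).map_distinguished _ hT) _
      ((Functor.mapTriangleCompIso (DCoh.RpushQ f hf) (ObjectProperty.ι DCoh.IsQCohD)).symm.app T ≪≫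
        (Functor.mapTriangleIso (ObjectProperty.liftCompιIso DCoh.IsQCohD _ _)).app T)
  letI := adj.rightAdjointCommShift ℤ
  haveI := adj.commShift_of_leftAdjoint ℤ
  haveI := adj.isTriangulated_rightAdjoint
  obtain ⟨C, q, d, hT⟩ := distinguished_cocone_triangle η
  have hTY := (DCoh.IsQCohD (X := Y)).ι.map_distinguished _ hT
  have hTX := (DCoh.IsQCohD (X := X)).ι.map_distinguished _ (a.map_distinguished _ hT)
  let uV : DCoh.Lpull V.ι ≅ DCoh.restrictD V.ι := (BC.adj V.ι).leftAdjointUniq (Cpt.restrictRpushAdj V.ι)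
  let uW : DCoh.Lpull (f ⁻¹ᵁ V).ι ≅ DCoh.restrictD (f ⁻¹ᵁ V).ι :=
    (BC.adj (f ⁻¹ᵁ V).ι).leftAdjointUniq (Cpt.restrictRpushAdj (f ⁻¹ᵁ V).ι)
  have hC : IsZero ((resD V).obj C.obj) := by
    haveI : IsIso ((DCoh.Lpull V.ι).map η.hom) :=
      inferInstanceAs (IsIso ((DCoh.IsQCohD (X := (V : Scheme.{u}))).ι.map ((Dual3.LpullQ V.ι hLg).map η)))
    exact (Triangle.isZero₃_iff_isIso₁ _ ((resD V).map_distinguished _ hTY)).2
      ((NatIso.isIso_map_iff uV η.hom).1 inferInstance)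
  have hCge : C.obj.IsGE (c - 1) := by
    haveI : ((DCoh.Lpull V.ι).obj K.obj).IsGE c := by
      refine (DerivedCategory.isGE_iff _ _).2 fun j hj => ?_
      refine IsZero.of_iso ?_ ((DerivedCategory.homologyFunctor _ j).mapIso (uV.app K.obj) ≪≫ HDResIso V.ι K.obj j)
      exact (Scheme.Modules.restrictFunctor V.ι).map_isZero ((DerivedCategory.isGE_iff _ _).1 hK j hj)
    haveI : ((DCoh.Rpush V.ι).obj ((DCoh.Lpull V.ι).obj K.obj)).IsGE c := RpushQC.isGE_Rpush V.ι _ c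
    haveI := hK
    exact DerivedCategory.TStructure.t.isGE₂ _ (rot_of_distTriang _ hTY) (c - 1)
      (DerivedCategory.TStructure.t.isGE_of_ge ((DCoh.Rpush V.ι).obj ((DCoh.Lpull V.ι).obj K.obj)) (c - 1) c (by omega))
      (DerivedCategory.TStructure.t.isGE_shift K.obj c 1 (c - 1) (by omega))
  have haC : IsZero ((resD (f ⁻¹ᵁ V)).obj (a.obj C).obj) :=
    BC.SupportAdj.isZero_res_adjoint f V hV hf a adj C (fun P hP E _ _ hE => by
      obtain ⟨i⟩ := hE
      exact BC.SupportAdj.qcoh_RHom_of_pc (fun m => Groth.L29.DC.isPseudoCoherentD_of_iso i.symm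
        (BC.SupportAdj.pc_Rpush_perfect f hP m)) C.property (c - 1) hCge) hC
  haveI : IsIso ((Dual3.LpullQ (f ⁻¹ᵁ V).ι hLg').map (a.map η)) := by
    haveI : IsIso ((DCoh.IsQCohD (X := (f ⁻¹ᵁ V : Scheme.{u}))).ι.map
        ((Dual3.LpullQ (f ⁻¹ᵁ V).ι hLg').map (a.map η))) :=
      (NatIso.isIso_map_iff uW (a.map η).hom).2
        ((Triangle.isZero₃_iff_isIso₁ _ ((resD (f ⁻¹ᵁ V)).map_distinguished _ hTX)).1 haC)
    exact isIso_of_reflects_iso _ (DCoh.IsQCohD (X := (f ⁻¹ᵁ V : Scheme.{u}))).ι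
  unfold Dual3.bcMap
  infer_instance

end Groth.L17.RatTrace
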