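import Groth.Agent.L17.RatTrace.CMTarget

/-!
The dualizing complex upstairs of a proper birational morphism: its degree on a Cohen–Macaulay source.
-/

set_option autoImplicit false
set_option linter.style.haveILetI false
set_option backward.defeqAttrib.useBackward true
set_option backward.isDefEq.respectTransparency false
set_option backward.isDefEq.respectTransparency.types false

universe u

open CategoryTheory CategoryTheory.Limits AlgebraicGeometry TopologicalSpace Opposite ZeroObject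

attribute [local instance] HasDerivedCategory.standard

noncomputable section

namespace Groth.L17.RatTrace

open Groth.L00 Groth.L29 Groth.L29.DC Groth.L29.BCAdj

variable {X Y : Scheme.{u}} {f : X ⟶ Y} [DCoh.HasRpush f]

/-- Derived direct images commute with restriction to compact opens of the base. -/
theorem nonempty_res_Rpush [QuasiCompact f] [QuasiSeparated f] (U : Y.Opens) (hUc : IsCompact (U : Set Y))
    [QuasiSeparatedSpace Y] [DCoh.HasRpush (f ∣_ U)] {E : DCoh.D X} (hE : DCoh.IsQCohD E)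
    (hf : DCoh.RpushPreservesQCoh f) :
    Nonempty ((DCoh.restrictD U.ι).obj ((DCoh.Rpush f).obj E) ≅
      (DCoh.Rpush (f ∣_ U)).obj ((DCoh.restrictD (f ⁻¹ᵁ U).ι).obj E)) := by
  haveI := fun {A B : Scheme.{u}} (k : A ⟶ B) => KFlat.hasLpull k
  haveI : QuasiSeparatedSpace X := quasiSeparatedSpace_of_quasiSeparated f
  haveI : QuasiCompact U.ι := Groth.L17.Approx.quasiCompact_ι U hUc
  haveI : QuasiCompact (f ⁻¹ᵁ U).ι := Groth.L17.Approx.quasiCompact_ι _ (f.isCompact_preimage hUc)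
  haveI : QuasiCompact (f ∣_ U) := IsZariskiLocalAtTarget.restrict ‹QuasiCompact f› U
  haveI : QuasiSeparated (f ∣_ U) := IsZariskiLocalAtTarget.restrict ‹QuasiSeparated f› U
  haveI := RpushQC.hasRpush U.ι
  haveI := RpushQC.hasRpush (f ⁻¹ᵁ U).ι
  let hg := Groth.L10.ShriekLoc.isQCohD_push U.ι
  let hg' := Groth.L10.ShriekLoc.isQCohD_push (f ⁻¹ᵁ U).ι
  let hLg : Dual3.LpullPreservesQCoh U.ι := fun _ h => isQCohD_Lpull _ h
  let hLg' : Dual3.LpullPreservesQCoh (f ⁻¹ᵁ U).ι := fun _ h => isQCohD_Lpull _ h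
  haveI := isIso_bcQ (hf := hf) (hf' := Groth.L10.ShriekLoc.isQCohD_push (f ∣_ U)) (adjQ U.ι hg hLg)
    (adjQ (f ⁻¹ᵁ U).ι hg' hLg') (BC.BC_flat (isPullback_morphismRestrict f U).flip) ⟨E, hE⟩
  let uV : DCoh.Lpull U.ι ≅ DCoh.restrictD U.ι := (BC.adj U.ι).leftAdjointUniq (Cpt.restrictRpushAdj U.ι)
  let uW : DCoh.Lpull (f ⁻¹ᵁ U).ι ≅ DCoh.restrictD (f ⁻¹ᵁ U).ι :=
    (BC.adj (f ⁻¹ᵁ U).ι).leftAdjointUniq (Cpt.restrictRpushAdj (f ⁻¹ᵁ U).ι)
  exact ⟨(uV.app _).symm ≪≫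
    (ObjectProperty.ι DCoh.IsQCohD).mapIso (asIso (BC.Paste.bc (adjQ U.ι hg hLg) (adjQ (f ⁻¹ᵁ U).ι hg' hLg')
      (eQ hf (Groth.L10.ShriekLoc.isQCohD_push (f ∣_ U)) hg hg' (isPullback_morphismRestrict f U).flip.w) ⟨E, hE⟩)) ≪≫
    (DCoh.Rpush (f ∣_ U)).mapIso (uW.app E)⟩

theorem isIso_restrict_of_le {V U : Y.Opens} (hUV : U ≤ V) (h : IsIso (f ∣_ V)) : IsIso (f ∣_ U) := by
  have h1 : MorphismProperty.isomorphisms Scheme.{u} ((f ∣_ V) ∣_ (V.ι ⁻¹ᵁ U)) :=
    IsZariskiLocalAtTarget.restrict (P := MorphismProperty.isomorphisms Scheme.{u}) h _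
  have h2 : MorphismProperty.isomorphisms Scheme.{u} (f ∣_ (V.ι ''ᵁ (V.ι ⁻¹ᵁ U))) :=
    ((MorphismProperty.isomorphisms Scheme.{u}).arrow_mk_iso_iff (morphismRestrictRestrict f V (V.ι ⁻¹ᵁ U))).1 h1
  have e : V.ι ''ᵁ (V.ι ⁻¹ᵁ U) = U := by
    rw [Scheme.Hom.image_preimage_eq_opensRange_inf, Scheme.Opens.opensRange_ι, inf_eq_right.2 hUV]
  rw [e] at h2
  exact h2

omit [DCoh.HasRpush f] in
/-- An isomorphism has no higher direct images and `O = f_* O`. -/
theorem unit_and_vanishing_of_isIso [IsIso f] [HasInjectiveResolutions X.Modules] :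
    IsIso (ClSub.unitToPush f) ∧ ∀ p : ℕ, 0 < p → IsZero ((Coh.Rpush f p).obj (Coh.structureModule X)) :=
  ⟨isIso_unitToPush_iff.2 fun W _ => ConcreteCategory.bijective_of_isIso (f.app W),
    fun p hp => RpushQC.isZero_Rpush_affine f _ (Groth.L19.Conormal.isQCoh_structureModule X) p hp⟩

section Source

variable [IsNoetherian Y] [IsProper f] [HasInjectiveResolutions X.Modules]
  [∀ (U : Scheme.{u}) (j : U ⟶ Y) [IsOpenImmersion j], PreservesFiniteLimits (Scheme.Modules.restrictFunctor j)]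
  [∀ (R : CommRingCat.{u}), PreservesFiniteLimits (tilde.functor R)]
  {hf : DCoh.RpushPreservesQCoh f} {a : DCoh.DQCoh Y ⥤ DCoh.DQCoh X} (adj : DCoh.RpushQ f hf ⊣ a)
  (K : DCoh.DQCoh Y) (hK : Dual2.IsDualizingSch Y K.obj) (V : Y.Opens) (hV : IsIso (f ∣_ V))

include hK hV in
/-- The trace is invertible over the isomorphism locus. -/
theorem isIso_res_trace (U : Y.affineOpens) (hU : U.1 ≤ V) : IsIso ((Gen.res U.1).map (adj.counit.app K).hom) := by
  haveI := fun V : Y.Opens => Groth.L17.PushQCoh.hasInjectiveResolutions (f ⁻¹ᵁ V : Scheme.{u})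
  haveI := isIso_restrict_of_le hU hV
  exact (res_trace_iff adj K hK U).1 unit_and_vanishing_of_isIso

include adj hK hV in
/-- Over the isomorphism locus the dualizing complex upstairs has the degree of the one downstairs. -/
theorem subsingleton_stalk_over (m : ℤ) (hKd : ∀ i : ℤ, i ≠ m → IsZero (DCoh.HD K.obj i)) (z : X) (hz : f z ∈ V)
    (i : ℤ) (hi : i ≠ m) : Subsingleton ((DCoh.HD (a.obj K).obj i).presheaf.stalk z) := by
  obtain ⟨_, ⟨U₀, hU₀, rfl⟩, hzU, hUV⟩ := Y.isBasis_affineOpens.exists_subset_of_mem_open hz V.2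
  let U : Y.Opens := U₀
  have hU : IsAffineOpen U := hU₀
  haveI := RpushQC.hasRpush (f ∣_ U)
  haveI := isIso_restrict_of_le hUV hV
  haveI := isIso_res_trace adj K hK V hV ⟨U, hU⟩ hUV
  obtain ⟨b⟩ := nonempty_res_Rpush (f := f) U hU.isCompact (a.obj K).property hf
  let k := f ∣_ U
  let E := (DCoh.restrictD (f ⁻¹ᵁ U).ι).obj (a.obj K).obj
  let eE : E ≅ (DCoh.restrictD k).obj ((DCoh.restrictD U.ι).obj K.obj) :=
    (asIso ((Cpt.restrictRpushAdj k).counit.app E)).symm ≪≫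
      (DCoh.restrictD k).mapIso (b.symm ≪≫ asIso ((Gen.res U).map (adj.counit.app K).hom))
  have hz' : IsZero ((DCoh.HD (a.obj K).obj i).restrict (f ⁻¹ᵁ U).ι) :=
    IsZero.of_iso ((Scheme.Modules.restrictFunctor k).map_isZero
      (((Scheme.Modules.restrictFunctor U.ι).map_isZero (hKd i hi)).of_iso (HDResIso U.ι K.obj i)))
      ((HDResIso (f ⁻¹ᵁ U).ι (a.obj K).obj i).symm ≪≫ (DerivedCategory.homologyFunctor _ i).mapIso eE ≪≫
        HDResIso k _ i)
  have h1 := (Groth.L00.Stk.F (f ⁻¹ᵁ U : Scheme.{u}) ⟨z, hzU⟩).map_isZero hz'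
  exact @Equiv.subsingleton _ _
    (((Scheme.Modules.restrictStalkNatIso (f ⁻¹ᵁ U).ι ⟨z, hzU⟩).app
      (DCoh.HD (a.obj K).obj i)).symm.addCommGroupIsoToAddEquiv.toEquiv) (ModuleCat.subsingleton_of_isZero h1)

end Source

/-- On a Cohen–Macaulay scheme a dualizing complex has a single degree if it does so on a dense open. -/
theorem isZero_HD_of_dense {Z : Scheme.{u}} [IsLocallyNoetherian Z]
    [∀ (U : Scheme.{u}) (j : U ⟶ Z) [IsOpenImmersion j], PreservesFiniteLimits (Scheme.Modules.restrictFunctor j)]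
    [∀ (R : CommRingCat.{u}), PreservesFiniteLimits (tilde.functor R)] {K : DCoh.D Z} (hK : Dual2.IsDualizingSch Z K)
    (hcm : ∀ z : Z, LocCoh.IsCohenMacaulayLocalRing (Z.presheaf.stalk z)) (O : Z.Opens) (hO : Dense (O : Set Z))
    (m : ℤ) (hgen : ∀ z ∈ O, ∀ i : ℤ, i ≠ m → Subsingleton ((DCoh.HD K i).presheaf.stalk z))
    (i : ℤ) (hi : i ≠ m) : IsZero (DCoh.HD K i) := by
  refine isZero_of_subsingleton_stalks fun y => ?_
  obtain ⟨A, _, j, _, ω, hx, hω, hst⟩ := Groth.L29.SchLocus.exists_chart hK y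
  obtain ⟨q, rfl⟩ := hx
  by_contra hne
  have hq : q ∈ Module.support A (Dual.HD A ω i) := (hst q i).1 (not_subsingleton_iff_nontrivial.1 hne)
  obtain ⟨P, hP, hPq⟩ := Ideal.exists_minimalPrimes_le (J := q.asIdeal) (bot_le : (⊥ : Ideal A) ≤ _)
  haveI : P.IsPrime := hP.1.1
  let p : PrimeSpectrum A := ⟨P, hP.1.1⟩
  obtain ⟨k, hk⟩ := Groth.L29.SchLocus.exists_mem_support hω p
  rw [(Groth.L29.HomD.evalShiftEquiv ω k).support_eq] at hk
  obtain ⟨i₀, -, hu⟩ := (Groth.L29.SchLocus.cm_iff_existsUnique hω q).1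
    ((Groth.L29.SchLocus.cm_stalk_iff j q).1 (hcm _))
  have hki : k = i := (hu k (Module.mem_support_mono hPq hk)).trans (hu i hq).symm
  have hpO : j p ∈ O := by
    refine Groth.L20.mem_of_dense_of_mem_genericPoints O hO ((Groth.L20.mem_genericPoints_iff _).2 fun z hz => ?_)
    obtain ⟨z', rfl⟩ := (hz.mem_open j.isOpenEmbedding.isOpen_range ⟨_, rfl⟩ : z ∈ Set.range j)
    have hle : z'.asIdeal ≤ P :=
      (PrimeSpectrum.le_iff_specializes z' p).2 (j.isOpenEmbedding.isInducing.specializes_iff.1 hz)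
    exact congrArg j (PrimeSpectrum.ext (le_antisymm hle (hP.2 ⟨z'.isPrime, bot_le⟩ hle)))
  exact not_subsingleton_iff_nontrivial.2 ((hst p k).2 hk) (hgen _ hpO k (hki ▸ hi))

end Groth.L17.RatTrace
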