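import Groth.Agent.L22.BlowUp
import Groth.Agent.L03.BlowAcyc.Regular
import Mathlib.RingTheory.Regular.Flat
import Mathlib.AlgebraicGeometry.Morphisms.Flat

/-!
Functions on the blow-up in a regular ideal come from the base.
-/

set_option autoImplicit false
set_option linter.style.haveILetI false
set_option backward.defeqAttrib.useBackward true
set_option backward.isDefEq.respectTransparency false

universe u

open CategoryTheory CategoryTheory.Limits AlgebraicGeometry TopologicalSpace Opposite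

noncomputable section

namespace Groth.L17.RatTrace

/-- A power of an element regular modulo `a` cancels modulo powers of `a`. -/
theorem pow_dvd_of_mul {R : Type*} [CommRing R] {a b : R} (ha : IsSMulRegular R a) (hb : ∀ x : R, a ∣ b * x → a ∣ x)
    (n k : ℕ) (x : R) (h : a ^ n ∣ b ^ k * x) : a ^ n ∣ x := by
  induction n generalizing x with
  | zero => simp
  | succ n ih =>
    have h1 : a ∣ b ^ k * x := (dvd_pow_self a n.succ_ne_zero).trans h
    have hx : a ∣ x := by
      clear h ih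
      induction k generalizing x with
      | zero => simpa using h1
      | succ k ihk => exact hb x (ihk (b * x) (by rwa [pow_succ, mul_assoc] at h1))
    obtain ⟨x', rfl⟩ := hx
    obtain ⟨c, hc⟩ := h
    refine (pow_succ' a n).symm ▸ mul_dvd_mul_left a (ih x' ⟨c, ha ?_⟩)
    change a * (b ^ k * x') = a * (a ^ n * c)
    rw [← mul_assoc a (a ^ n), ← pow_succ' a n, ← hc]
    ring

section Scheme

variable {W T : Scheme.{u}} {π : T ⟶ W} {I : W.IdealSheafData}

theorem bijective_app_of_le_compl (hπ : BlowUp.IsBlowUp π I) {O : W.Opens} (hO : O ≤ I.support.compl) :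
    Function.Bijective (π.app O) := by
  haveI := Groth.L22.Ideals.isIso_restrict_compl hπ
  haveI := Groth.L13.Contraction.isIso_restrict_mono π hO
  have h1 : IsIso ((π ∣_ O).app ⊤) := inferInstance
  rw [morphismRestrict_app] at h1
  have h2 : IsIso (π.app (O.ι ''ᵁ ⊤)) := @IsIso.of_isIso_comp_right _ _ _ _ _ _ _ inferInstance h1
  rw [O.ι_image_top] at h2
  exact ConcreteCategory.bijective_of_isIso _

theorem eq_zero_of_germs (hπ : BlowUp.IsBlowUp π I) {O : T.Opens} (s : Γ(T, O))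
    (h : ∀ (t : T) (ht : t ∈ O), π t ∉ I.support → T.presheaf.germ O t ht s = 0) : s = 0 := by
  refine TopCat.Presheaf.section_ext T.sheaf O s 0 fun t ht => ?_
  obtain ⟨_, ⟨V, hV, rfl⟩, htV, hVO'⟩ := T.isBasis_affineOpens.exists_subset_of_mem_open ht O.2
  have hVO : (show T.Opens from V) ≤ O := hVO'
  have h0 : T.presheaf.map (homOfLE hVO).op s = 0 := by
    refine Groth.L22.Ideals.eq_zero_of_eq_zero_off_exceptional hπ (V := ⟨V, hV⟩) _ fun x hx hxI => ?_
    rw [TopCat.Presheaf.germ_res_apply]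
    exact h x (hVO hx) hxI
  have h1 := congrArg (T.presheaf.germ V t htV) h0
  rw [map_zero, TopCat.Presheaf.germ_res_apply] at h1
  exact h1.trans (map_zero _).symm

theorem bijective_app_of_principal (hπ : BlowUp.IsBlowUp π I) (U : W.affineOpens) {a : Γ(W, U.1)}
    (ha : a ∈ nonZeroDivisors Γ(W, U.1)) (hI : I.ideal U = Ideal.span {a}) : Function.Bijective (π.app U.1) := by
  haveI : IsAffine (U.1 : Scheme.{u}) := U.2
  have hb := Groth.L03.BlowAcyc.isBlowUp_restrict hπ U.1
  have hJ : BlowUp.IsEffCartierIdeal (I.comap U.1.ι) := fun x => by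
    have hle : (⊤ : U.1.toScheme.Opens) ≤ U.1.ι ⁻¹ᵁ U.1 := by simp
    refine ⟨⟨⊤, isAffineOpen_top _⟩, trivial, U.1.ι.appLE U.1 ⊤ hle a, ?_, ?_⟩
    · haveI : IsIso (U.1.ι.appLE U.1 ⊤ hle) := by
        rw [Scheme.Opens.ι_appLE]
        generalize_proofs _ _ p
        haveI : IsIso (homOfLE p) := ⟨homOfLE U.1.ι_image_top.ge, Subsingleton.elim _ _, Subsingleton.elim _ _⟩
        infer_instance
      exact (MulEquivClass.map_nonZeroDivisors
        (asIso (U.1.ι.appLE U.1 ⊤ hle)).commRingCatIsoToRingEquiv).le ⟨a, ha, rfl⟩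
    · rw [Groth.L22.Ideals.comap_ideal U.1.ι I U ⟨⊤, isAffineOpen_top _⟩ hle, hI, Ideal.map_span,
        Set.image_singleton]
  obtain ⟨h, hh, -⟩ := hb.2 _ (𝟙 _) (by rw [Scheme.IdealSheafData.comap_id]; exact hJ)
  haveI : IsIso (π ∣_ U.1) :=
    ⟨h, (hb.2 _ (π ∣_ U.1) hb.1).unique (by rw [Category.assoc, hh, Category.comp_id]) (Category.id_comp _), hh⟩
  have h1 : IsIso ((π ∣_ U.1).app ⊤) := inferInstance
  rw [morphismRestrict_app] at h1
  have h2 : IsIso (π.app (U.1.ι ''ᵁ ⊤)) := @IsIso.of_isIso_comp_right _ _ _ _ _ _ _ inferInstance h1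
  rw [U.1.ι_image_top] at h2
  exact ConcreteCategory.bijective_of_isIso _

variable (π) in
/-- Restriction to the preimage of a basic open. -/
def resB (U : W.Opens) (g : Γ(W, U)) : Γ(T, π ⁻¹ᵁ U) →+* Γ(T, π ⁻¹ᵁ W.basicOpen g) :=
  (T.presheaf.map (homOfLE (π.preimage_mono (W.basicOpen_le g))).op).hom

theorem resB_app (U : W.Opens) (g x : Γ(W, U)) :
    resB π U g (π.app U x) = π.app (W.basicOpen g) (W.presheaf.map (homOfLE (W.basicOpen_le g)).op x) :=
  (ConcreteCategory.congr_hom (π.naturality (homOfLE (W.basicOpen_le g)).op) x).symm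

theorem resB_mul (U : W.Opens) (g g' : Γ(W, U)) {q : Γ(T, π ⁻¹ᵁ U)} (h : resB π U g q = 0) :
    resB π U (g * g') q = 0 := by
  have hle : W.basicOpen (g * g') ≤ W.basicOpen g := (W.basicOpen_mul g g').le.trans inf_le_left
  have e : resB π U (g * g') q = T.presheaf.map (homOfLE (π.preimage_mono hle)).op (resB π U g q) := by
    simp only [resB, ← CommRingCat.comp_apply, ← Functor.map_comp]
    rfl
  rw [e, h, map_zero]

variable (hπ : BlowUp.IsBlowUp π I) (U : W.affineOpens)

theorem basicOpen_le_compl {g : Γ(W, U.1)} (hg : g ∈ I.ideal U) : W.basicOpen g ≤ I.support.compl := by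
  intro y hy hyI
  have h1 : y ∈ (I.support : Set W) ∩ U.1 := ⟨hyI, W.basicOpen_le g hy⟩
  rw [I.coe_support_inter U] at h1
  exact (Scheme.mem_zeroLocus_iff _ _ _).1 h1.1 g hg hy

include hπ

theorem eq_zero_of_resB_app {g : Γ(W, U.1)} (hg : g ∈ I.ideal U) {x : Γ(W, U.1)}
    (h : resB π U.1 g (π.app U.1 x) = 0) : ∃ k : ℕ, g ^ k * x = 0 := by
  rw [resB_app] at h
  have h1 := (bijective_app_of_le_compl hπ (basicOpen_le_compl U hg)).1 (h.trans (map_zero _).symm)
  haveI := U.2.isLocalization_basicOpen g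
  obtain ⟨⟨c, k, rfl⟩, hc⟩ := (IsLocalization.map_eq_zero_iff (Submonoid.powers g) Γ(W, W.basicOpen g) x).1 h1
  exact ⟨k, hc⟩

theorem exists_resB_eq {g : Γ(W, U.1)} (hg : g ∈ I.ideal U) (q : Γ(T, π ⁻¹ᵁ U.1)) :
    ∃ (n : ℕ) (x : Γ(W, U.1)), resB π U.1 g (π.app U.1 x - q * π.app U.1 (g ^ n)) = 0 := by
  haveI := U.2.isLocalization_basicOpen g
  obtain ⟨t, ht⟩ := (bijective_app_of_le_compl hπ (basicOpen_le_compl U hg)).2 (resB π U.1 g q)
  obtain ⟨n, x, hx⟩ := IsLocalization.Away.surj g t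
  refine ⟨n, x, ?_⟩
  rw [map_sub, map_mul, resB_app, resB_app, ← ht, ← map_mul, sub_eq_zero]
  exact congrArg (π.app (W.basicOpen g)) (((congrArg (t * ·) (map_pow _ g n)).trans hx).symm)

theorem eq_zero_of_resB {a : Γ(W, U.1)} (ha : a ∈ nonZeroDivisors Γ(W, U.1))
    (haI : a ∈ I.ideal U) {q : Γ(T, π ⁻¹ᵁ U.1)} (h : resB π U.1 a q = 0) : q = 0 := by
  refine eq_zero_of_germs hπ q fun t ht htI => ?_
  obtain ⟨g, hg, hyg⟩ : ∃ g ∈ I.ideal U, π t ∈ W.basicOpen g := by
    by_contra hne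
    push Not at hne
    have h1 : π t ∈ W.zeroLocus (U := U.1) (I.ideal U) ∩ U.1 :=
      ⟨(Scheme.mem_zeroLocus_iff _ _ _).2 hne, ht⟩
    rw [← I.coe_support_inter U] at h1
    exact htI h1.1
  obtain ⟨n, x, hx⟩ := exists_resB_eq hπ U hg q
  have h1 : resB π U.1 (a * g) (π.app U.1 x) = 0 := by
    have h2 := resB_mul U.1 g a hx
    rw [mul_comm g a, map_sub, map_mul, resB_mul U.1 a g h, zero_mul, sub_zero] at h2
    exact h2
  obtain ⟨k, hk⟩ := eq_zero_of_resB_app hπ U (Ideal.mul_mem_right _ _ haI) h1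
  have hx0 : resB π U.1 g (π.app U.1 x) = 0 := by
    rw [mul_pow, mul_assoc] at hk
    have h3 : g ^ k * x = 0 := (mul_right_mem_nonZeroDivisors_eq_zero_iff (pow_mem ha k)).1 (by rw [mul_comm]; exact hk)
    haveI := U.2.isLocalization_basicOpen g
    rw [resB_app]
    exact (congrArg (π.app (W.basicOpen g)) ((IsLocalization.map_eq_zero_iff (Submonoid.powers g)
      Γ(W, W.basicOpen g) x).2 ⟨⟨g ^ k, k, rfl⟩, h3⟩)).trans (map_zero _)
  rw [map_sub, map_mul, hx0, zero_sub, neg_eq_zero] at hx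
  haveI := U.2.isLocalization_basicOpen g
  have hu : IsUnit (resB π U.1 g (π.app U.1 (g ^ n))) := by
    rw [resB_app, map_pow]
    exact ((IsLocalization.Away.algebraMap_isUnit g).pow n).map (π.app (W.basicOpen g)).hom
  have hq : resB π U.1 g q = 0 := hu.mul_left_eq_zero.1 hx
  have h4 := congrArg (T.presheaf.germ _ t hyg) hq
  rw [map_zero] at h4
  exact (TopCat.Presheaf.germ_res_apply T.presheaf
    (homOfLE (π.preimage_mono (W.basicOpen_le g))) t hyg q).symm.trans h4

/-- Functions on the blow-up in the ideal of a weakly regular sequence come from the base. -/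
theorem bijective_app_of_isWeaklyRegular {a : Γ(W, U.1)} {l : List Γ(W, U.1)}
    (hl : RingTheory.Sequence.IsWeaklyRegular Γ(W, U.1) (a :: l)) (hI : I.ideal U = Ideal.ofList (a :: l)) :
    Function.Bijective (π.app U.1) := by
  have hreg : IsSMulRegular Γ(W, U.1) a := ((RingTheory.Sequence.isWeaklyRegular_cons_iff _ _ _).1 hl).1
  have hnz : a ∈ nonZeroDivisors Γ(W, U.1) := mem_nonZeroDivisors_iff_right.2 fun z hz =>
    hreg (show a • z = a • 0 by rw [smul_eq_mul, smul_zero, mul_comm]; exact hz)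
  have haI : a ∈ I.ideal U := hI ▸ Ideal.subset_span (List.mem_cons_self ..)
  refine ⟨(injective_iff_map_eq_zero (π.app U.1).hom).2 fun x hx => ?_, fun s => ?_⟩
  · obtain ⟨k, hk⟩ := eq_zero_of_resB_app hπ U haI (x := x) ((congrArg (resB π U.1 a) hx).trans (map_zero _))
    exact (mul_right_mem_nonZeroDivisors_eq_zero_iff (pow_mem hnz k)).1 (by rw [mul_comm]; exact hk)
  match l with
  | [] => exact (bijective_app_of_principal hπ U hnz (by rw [hI, Ideal.ofList_singleton])).2 s
  | b :: l' =>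
    have hbI : b ∈ I.ideal U := hI ▸ Ideal.subset_span (List.mem_cons_of_mem _ (List.mem_cons_self ..))
    have hb : ∀ x, a ∣ b * x → a ∣ x := fun x hx => by
      have h1 := ((RingTheory.Sequence.isWeaklyRegular_cons_iff _ _ _).1
        ((RingTheory.Sequence.isWeaklyRegular_cons_iff _ _ _).1 hl).2).1
      have hmem : ∀ z : Γ(W, U.1),
          (Submodule.Quotient.mk z : QuotSMulTop a Γ(W, U.1)) = 0 ↔ a ∣ z := fun z => by
        rw [Submodule.Quotient.mk_eq_zero, Submodule.mem_smul_pointwise_iff_exists]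
        exact ⟨fun ⟨c, _, hc⟩ => ⟨c, hc.symm⟩, fun ⟨c, hc⟩ => ⟨c, trivial, hc.symm⟩⟩
      refine (hmem x).1 (h1 ?_)
      change b • (Submodule.Quotient.mk x : QuotSMulTop a Γ(W, U.1)) = b • 0
      rw [smul_zero, ← Submodule.Quotient.mk_smul, smul_eq_mul]
      exact (hmem _).2 hx
    obtain ⟨n, x, hx⟩ := exists_resB_eq hπ U haI s
    obtain ⟨m, y, hy⟩ := exists_resB_eq hπ U hbI s
    have h1 := resB_mul U.1 a b hx
    have h2 : resB π U.1 (a * b) (π.app U.1 y - s * π.app U.1 (b ^ m)) = 0 := mul_comm b a ▸ resB_mul U.1 b a hy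
    rw [map_sub, map_mul, sub_eq_zero] at h1 h2
    obtain ⟨k, hk⟩ := eq_zero_of_resB_app hπ U (Ideal.mul_mem_left _ a hbI) (x := b ^ m * x - a ^ n * y) (by
      rw [map_sub, map_sub, map_mul (π.app U.1).hom, map_mul (π.app U.1).hom, map_mul, map_mul, h1, h2]
      ring)
    have h3 : b ^ k * (b ^ m * x - a ^ n * y) = 0 :=
      (mul_right_mem_nonZeroDivisors_eq_zero_iff (pow_mem hnz k)).1 (by rw [mul_comm, ← mul_assoc, ← mul_pow]; exact hk)
    obtain ⟨z, rfl⟩ := pow_dvd_of_mul hreg hb n (k + m) x ⟨b ^ k * y, by linear_combination h3⟩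
    refine ⟨z, sub_eq_zero.1 (eq_zero_of_resB hπ U hnz haI ?_)⟩
    rw [map_mul (π.app U.1).hom, map_sub, map_mul, map_mul, mul_comm (resB π U.1 a s), ← mul_sub] at hx
    haveI := U.2.isLocalization_basicOpen a
    have hu : IsUnit (resB π U.1 a (π.app U.1 (a ^ n))) := by
      rw [resB_app, map_pow]
      exact ((IsLocalization.Away.algebraMap_isUnit a).pow n).map (π.app (W.basicOpen a)).hom
    rw [map_sub]
    exact hu.mul_right_eq_zero.1 hx

end Scheme

end Groth.L17.RatTrace
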