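import Groth.Agent.L17.RatTrace.BlowReg
import Groth.Agent.L17.RatTrace.Birat
import Groth.Agent.L16.HomSh.QAffineCompletion

/-!
The trace of the blow-up in a regular ideal of a Cohen–Macaulay scheme.
-/

set_option autoImplicit false
set_option linter.style.haveILetI false
set_option backward.defeqAttrib.useBackward true
set_option backward.isDefEq.respectTransparency false
set_option backward.isDefEq.respectTransparency.types false

universe u

open CategoryTheory CategoryTheory.Limits AlgebraicGeometry TopologicalSpace Opposite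

attribute [local instance] HasDerivedCategory.standard

noncomputable section

namespace Groth.L17.RatTrace

variable {W T : Scheme.{u}} {π : T ⟶ W} {I : W.IdealSheafData}

theorem exists_cons_of_regularIdeal (hI : RegImm.IsRegularIdeal RegImm.Kind.regular I)
    (hV : Dense ((I.support : Set W)ᶜ)) {y : W} (hy : y ∈ I.support) :
    ∃ (U : W.affineOpens) (a : Γ(W, U.1)) (l : List Γ(W, U.1)), y ∈ U.1 ∧
      RingTheory.Sequence.IsWeaklyRegular Γ(W, U.1) (a :: l) ∧ I.ideal U = Ideal.ofList (a :: l) := by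
  obtain ⟨U, hyU, rs, hrs, hU⟩ := hI y hy
  match rs, hrs, hU with
  | [], _, hU =>
    obtain ⟨z, hzU, hz⟩ := hV.inter_open_nonempty (U.1 : Set W) U.1.2 ⟨y, hyU⟩
    refine absurd ?_ hz
    have h1 : z ∈ W.zeroLocus (U := U.1) (I.ideal U) ∩ U.1 := ⟨by
      rw [hU, Ideal.ofList_nil, Scheme.mem_zeroLocus_iff]
      intro f hf
      rw [SetLike.mem_coe, Submodule.mem_bot] at hf
      rw [hf, Scheme.basicOpen_zero]
      exact fun h => h.elim, hzU⟩
    rw [← I.coe_support_inter U] at h1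
    exact h1.1
  | a :: l, hrs, hU => exact ⟨U, a, l, hyU, hrs.toIsWeaklyRegular, hU⟩

/-- Functions on the blow-up in a regular ideal with nowhere dense centre come from the base. -/
theorem isIso_unitToPush_blowUp (hπ : BlowUp.IsBlowUp π I) (hI : RegImm.IsRegularIdeal RegImm.Kind.regular I)
    (hV : Dense ((I.support : Set W)ᶜ)) : IsIso (ClSub.unitToPush π) := by
  refine Groth.L17.BC.Classes.isIso_of_affine _ fun y => ?_
  by_cases hy : y ∈ I.support
  · obtain ⟨U, a, l, hyU, hl, hIU⟩ := exists_cons_of_regularIdeal hI hV hy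
    refine ⟨U.1, hyU, fun V hVU hVa => ?_⟩
    let r : Γ(W, U.1) →+* Γ(W, V) := (W.presheaf.map (homOfLE hVU).op).hom
    have hfl : r.Flat := by
      have h := (𝟙 W : W ⟶ W).flat_appLE U.2 hVa hVU
      simpa [r, Scheme.Hom.appLE] using h
    letI := r.toAlgebra
    haveI : Module.Flat Γ(W, U.1) Γ(W, V) := hfl
    exact bijective_app_of_isWeaklyRegular hπ ⟨V, hVa⟩ (hl.of_flat (S := Γ(W, V))) (by
      rw [← I.map_ideal (U := ⟨V, hVa⟩) (V := U) hVU, hIU]
      exact Ideal.map_ofList _ _)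
  · exact ⟨I.support.compl, hy, fun V hVc _ => bijective_app_of_le_compl hπ hVc⟩

/-- The blow-up in a regular ideal has no higher direct images of `O`. -/
theorem isZero_Rpush_blowUp [IsLocallyNoetherian W] [HasInjectiveResolutions T.Modules] (hπ : BlowUp.IsBlowUp π I)
    (hI : RegImm.IsRegularIdeal RegImm.Kind.regular I) (hV : Dense ((I.support : Set W)ᶜ)) (p : ℕ) (hp : 0 < p) :
    IsZero ((Coh.Rpush π p).obj (Coh.structureModule T)) := by
  have hQ : Groth.L03.BlowAcyc.LocQR I 0 := fun y hy => by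
    obtain ⟨U, a, l, hyU, hl, hIU⟩ := exists_cons_of_regularIdeal hI hV hy
    obtain ⟨f, hf, hq, -⟩ := Groth.L03.BlowAcyc.exists_fin (rs := a :: l) (d := l.length) rfl hl
    exact ⟨U, _, f, hyU, Nat.zero_le _, hIU.trans hf, hq⟩
  have h1 := Groth.L03.BlowAcyc.isZero_RpushAb_pullback hπ hQ (Groth.L16.HomSh.isFinLocFree_unit W) p hp
  obtain ⟨e⟩ := Groth.L17.nonempty_toAb_Rpush_iso π (Coh.structureModule T) p
  exact Groth.L17.PushQCoh.isZero_of_toAb ((h1.of_iso ((Coh.RpushAb π p).mapIso ((Groth.L17.toAbShF T).mapIso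
    (Groth.L29.LocFree.pullbackUnitIso π).symm))).of_iso e)

open Groth.L00 Groth.L29 Groth.L29.DC Groth.L29.BCAdj in
/-- `Rπ_* ω_T = ω_W` for the blow-up in a regular ideal. -/
theorem trace_blowUp [IsNoetherian W] [IsProper π] [DCoh.HasRpush π] [HasInjectiveResolutions T.Modules]
    [∀ (U : Scheme.{u}) (j : U ⟶ W) [IsOpenImmersion j], PreservesFiniteLimits (Scheme.Modules.restrictFunctor j)]
    [∀ (R : CommRingCat.{u}), PreservesFiniteLimits (tilde.functor R)]
    (hπ : BlowUp.IsBlowUp π I) (hI : RegImm.IsRegularIdeal RegImm.Kind.regular I)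
    (hV : Dense ((I.support : Set W)ᶜ)) (hcmT : ∀ t : T, LocCoh.IsCohenMacaulayLocalRing (T.presheaf.stalk t))
    {hf : DCoh.RpushPreservesQCoh π} {a : DCoh.DQCoh W ⥤ DCoh.DQCoh T} (adj : DCoh.RpushQ π hf ⊣ a)
    (K : DCoh.DQCoh W) (hK : Dual2.IsDualizingSch W K.obj) (d : ℕ)
    (hKd : ∀ i : ℤ, i ≠ -(d : ℤ) → IsZero (DCoh.HD K.obj i)) :
    IsIso ((ObjectProperty.ι DCoh.IsQCohD).map (adj.counit.app K)) ∧
      ∀ p : ℕ, 0 < p → IsZero ((Coh.Rpush π p).obj (DCoh.HD (a.obj K).obj (-(d : ℤ)))) := by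
  haveI : IsLocallyNoetherian T := LocallyOfFiniteType.isLocallyNoetherian π
  haveI := fun R : CommRingCat.{u} => Groth.L18.TildeF.tilde_preservesFiniteLimits (R := R)
  have htr := (isIso_trace_iff_unit adj K hK).1
    ⟨isIso_unitToPush_blowUp hπ hI hV, fun p hp => isZero_Rpush_blowUp hπ hI hV p hp⟩
  refine ⟨htr, fun p hp => ?_⟩
  have hd : Dense ((π ⁻¹ᵁ I.support.compl : T.Opens) : Set T) := by
    have h := Groth.L03.BlowAcyc.dense_compl (I.comap π) fun t ht => by
      obtain ⟨U, htU, f, hf, hfU⟩ := hπ.1 t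
      exact ⟨U, htU, f, hfU ▸ Ideal.mem_span_singleton_self f, hf⟩
    rwa [Scheme.IdealSheafData.support_comap] at h
  have hKX := Groth.L10.ShriekLoc.isDualizingSch_shriek adj K hK
  have hX : ∀ i : ℤ, i ≠ -(d : ℤ) → IsZero (DCoh.HD (a.obj K).obj i) := fun i hi =>
    isZero_HD_of_dense hKX hcmT (π ⁻¹ᵁ I.support.compl) hd _
      (fun z hz i hi => subsingleton_stalk_over adj K hK _ (Groth.L22.Ideals.isIso_restrict_compl hπ) _ hKd z hz i hi)
      i hi
  obtain ⟨e⟩ := (exists_HD_Rpush_single (f := π) (a.obj K).obj d hX).2 p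
  haveI := htr
  exact ((hKd _ (by omega)).of_iso ((DerivedCategory.homologyFunctor W.Modules (-(d : ℤ) + p)).mapIso
    (asIso ((ObjectProperty.ι DCoh.IsQCohD).map (adj.counit.app K))))).of_iso e.symm

end Groth.L17.RatTrace
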