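import Groth.Agent.L17.RatTrace.Local
import Groth.Agent.L29.Dual.SchLocus
import Groth.Agent.L29.DCoh.RpushAffine
import Groth.Agent.L21.NormRed.Coker
import Groth.Agent.L10.DerTrunc

/-!
For a proper birational morphism with `O = Rf_* O` and Cohen–Macaulay source, the target is Cohen–Macaulay iff the
higher direct images of the dualizing module vanish.
-/

set_option autoImplicit false
set_option linter.style.haveILetI false
set_option backward.defeqAttrib.useBackward true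
set_option backward.isDefEq.respectTransparency false
set_option backward.isDefEq.respectTransparency.types false

universe u

open CategoryTheory CategoryTheory.Limits AlgebraicGeometry TopologicalSpace Opposite ZeroObject

attribute [local instance] HasDerivedCategory.standard

noncomputable section

namespace Groth.L17.RatTrace

open Groth.L00 Groth.L29 Groth.L29.DC

variable {X Y : Scheme.{u}} {f : X ⟶ Y} [DCoh.HasRpush f]

omit [DCoh.HasRpush f] in
theorem isZero_of_subsingleton_stalks {M : Y.Modules} (h : ∀ y : Y, Subsingleton (M.presheaf.stalk y)) :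
    IsZero M := by
  haveI : IsIso (0 : M ⟶ 0) := Groth.L29.DC.Cpt.isIso_of_stalks _ fun y =>
    haveI : Subsingleton ((Groth.L00.Stk.F Y y).obj M) := h y
    isIso_of_source_target_iso_zero _ (ModuleCat.isZero_of_subsingleton _).isoZero
      ((Groth.L00.Stk.F Y y).map_isZero (isZero_zero _)).isoZero
  exact (isZero_zero _).of_iso (asIso (0 : M ⟶ 0))

/-- Cohomology of the direct image of an object concentrated in degree `-d`. -/
theorem exists_HD_Rpush_single [HasInjectiveResolutions X.Modules] (E : DCoh.D X) (d : ℕ)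
    (hE : ∀ i : ℤ, i ≠ -(d : ℤ) → IsZero (DCoh.HD E i)) :
    (∀ i : ℤ, i < -(d : ℤ) → IsZero (DCoh.HD ((DCoh.Rpush f).obj E) i)) ∧
      ∀ p : ℕ, Nonempty (DCoh.HD ((DCoh.Rpush f).obj E) (-(d : ℤ) + p) ≅
        (Coh.Rpush f p).obj (DCoh.HD E (-(d : ℤ)))) := by
  haveI hge : E.IsGE (-(d : ℤ)) := (DerivedCategory.isGE_iff _ _).2 fun i hi => hE i hi.ne
  haveI : E.IsLE (-(d : ℤ)) := (DerivedCategory.isLE_iff _ _).2 fun i hi => hE i hi.ne'
  haveI : ((DCoh.Rpush f).obj E).IsGE (-(d : ℤ)) := RpushQC.isGE_Rpush f E _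
  refine ⟨fun i hi => DerivedCategory.isZero_of_isGE _ (-(d : ℤ)) i hi, fun p => ?_⟩
  obtain ⟨M, ⟨m⟩⟩ := DerivedCategory.exists_iso_singleFunctor_obj_of_isGE_of_isLE E (-(d : ℤ))
  letI := Gen.commShiftRpush f
  let eM : M ≅ DCoh.HD E (-(d : ℤ)) :=
    ((DerivedCategory.singleFunctorCompHomologyFunctorIso X.Modules (-(d : ℤ))).app M).symm ≪≫
      (DerivedCategory.homologyFunctor X.Modules (-(d : ℤ))).mapIso m.symm
  let es : (DerivedCategory.singleFunctor X.Modules (-(d : ℤ))).obj M ≅ (DCoh.inD X M)⟦(d : ℤ)⟧ :=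
    (((SingleFunctors.shiftIso (DerivedCategory.singleFunctors X.Modules) (d : ℤ) (-(d : ℤ)) 0 (by omega)).app M)).symm
  obtain ⟨i⟩ := Groth.Lead.RpushHD.nonempty_HD_Rpush_inD f M p
  exact ⟨(DerivedCategory.homologyFunctor Y.Modules (-(d : ℤ) + p)).mapIso
      ((DCoh.Rpush f).mapIso (m ≪≫ es) ≪≫ ((DCoh.Rpush f).commShiftIso (d : ℤ)).app _) ≪≫
    Groth.L10.hShiftIso (A := Y.Modules) ((DCoh.Rpush f).obj (DCoh.inD X M)) (d : ℤ) (-(d : ℤ) + p) (p : ℤ) (by omega) ≪≫
    i ≪≫ (Coh.Rpush f p).mapIso eM⟩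

variable [∀ (U : Scheme.{u}) (j : U ⟶ Y) [IsOpenImmersion j], PreservesFiniteLimits (Scheme.Modules.restrictFunctor j)]
  [∀ (R : CommRingCat.{u}), PreservesFiniteLimits (tilde.functor R)]

/-- The target is Cohen–Macaulay iff the higher direct images of the dualizing module vanish. -/
theorem cm_target_iff [IsNoetherian Y] [IsProper f] [HasInjectiveResolutions X.Modules]
    (hbir : ∃ V : Y.Opens, Dense (V : Set Y) ∧ IsIso (f ∣_ V))
    {hf : DCoh.RpushPreservesQCoh f} {a : DCoh.DQCoh Y ⥤ DCoh.DQCoh X} (adj : DCoh.RpushQ f hf ⊣ a)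
    (K : DCoh.DQCoh Y) (hK : Dual2.IsDualizingSch Y K.obj) (d : ℕ)
    (hKX : ∀ i : ℤ, i ≠ -(d : ℤ) → IsZero (DCoh.HD (a.obj K).obj i))
    (hξ : IsIso (ClSub.unitToPush f) ∧ ∀ p : ℕ, 0 < p → IsZero ((Coh.Rpush f p).obj (Coh.structureModule X))) :
    (∀ y : Y, LocCoh.IsCohenMacaulayLocalRing (Y.presheaf.stalk y)) ↔
      ∀ p : ℕ, 0 < p → IsZero ((Coh.Rpush f p).obj (DCoh.HD (a.obj K).obj (-(d : ℤ)))) := by
  haveI := (isIso_trace_iff_unit adj K hK).1 hξ
  obtain ⟨hlow, hhigh⟩ := exists_HD_Rpush_single (f := f) (a.obj K).obj d hKX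
  let T := asIso ((ObjectProperty.ι DCoh.IsQCohD).map (adj.counit.app K))
  have eT : ∀ i : ℤ, DCoh.HD ((DCoh.Rpush f).obj (a.obj K).obj) i ≅ DCoh.HD K.obj i := fun i =>
    (DerivedCategory.homologyFunctor Y.Modules i).mapIso T
  -- cohomology of `K` vanishes off `-d` iff the higher direct images do
  have hiff : (∀ i : ℤ, i ≠ -(d : ℤ) → IsZero (DCoh.HD K.obj i)) ↔
      ∀ p : ℕ, 0 < p → IsZero ((Coh.Rpush f p).obj (DCoh.HD (a.obj K).obj (-(d : ℤ)))) := by
    refine ⟨fun h p hp => ?_, fun h i hi => ?_⟩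
    · obtain ⟨e⟩ := hhigh p
      exact ((h _ (by omega)).of_iso (eT _)).of_iso e.symm
    · rcases lt_or_gt_of_ne hi with h' | h'
      · exact (hlow i h').of_iso (eT i).symm
      · obtain ⟨p, rfl⟩ : ∃ p : ℕ, i = -(d : ℤ) + p := ⟨(i + d).toNat, by omega⟩
        obtain ⟨e⟩ := hhigh p
        exact ((h p (by omega)).of_iso e).of_iso (eT _).symm
  -- stalks off `-d` vanish on the isomorphism locus
  obtain ⟨V, hVd, hV⟩ := hbir
  haveI := Groth.L17.PushQCoh.hasInjectiveResolutions (f ⁻¹ᵁ V : Scheme.{u})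
  haveI := hV
  have hgen : ∀ y ∈ V, ∀ i : ℤ, i ≠ -(d : ℤ) → Subsingleton ((DCoh.HD K.obj i).presheaf.stalk y) := fun y hy i hi => by
    suffices hz : IsZero ((DCoh.HD K.obj i).restrict V.ι) by
      have h1 := (Groth.L00.Stk.F (V : Scheme.{u}) ⟨y, hy⟩).map_isZero hz
      exact @Equiv.subsingleton _ _
        (((Scheme.Modules.restrictStalkNatIso V.ι ⟨y, hy⟩).app (DCoh.HD K.obj i)).symm.addCommGroupIsoToAddEquiv.toEquiv)
        (ModuleCat.subsingleton_of_isZero h1)
    rcases lt_or_gt_of_ne hi with h' | h'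
    · exact (Scheme.Modules.restrictFunctor V.ι).map_isZero ((hlow i h').of_iso (eT i).symm)
    · obtain ⟨p, rfl⟩ : ∃ p : ℕ, i = -(d : ℤ) + p := ⟨(i + d).toNat, by omega⟩
      obtain ⟨e⟩ := hhigh p
      obtain ⟨r⟩ := Groth.L17.PushQCoh.nonempty_Rpush_restrict_iso f V.ι (f ⁻¹ᵁ V).ι (f ∣_ V)
        (by rw [Scheme.Opens.opensRange_ι, Scheme.Opens.opensRange_ι]) (morphismRestrict_ι f V)
        (DCoh.HD (a.obj K).obj (-(d : ℤ))) p
      refine IsZero.of_iso ?_ ((Scheme.Modules.restrictFunctor V.ι).mapIso ((eT _).symm ≪≫ e) ≪≫ r)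
      haveI : Coh.IsQCoh (DCoh.HD (a.obj K).obj (-(d : ℤ))) := (a.obj K).property _
      exact RpushQC.isZero_Rpush_affine (f ∣_ V) _
        (Scheme.Modules.isQuasicoherent_restrictFunctor _ _) p (by omega)
  refine ⟨fun hcm => hiff.1 fun i hi => ?_, fun h y => ?_⟩
  · refine isZero_of_subsingleton_stalks fun y => ?_
    obtain ⟨A, _, j, _, ω, hx, hω, hst⟩ := Groth.L29.SchLocus.exists_chart hK y
    obtain ⟨q, rfl⟩ := hx
    by_contra hne
    have hq : q ∈ Module.support A (Dual.HD A ω i) := (hst q i).1 (not_subsingleton_iff_nontrivial.1 hne)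
    obtain ⟨P, hP, hPq⟩ := Ideal.exists_minimalPrimes_le (J := q.asIdeal) (bot_le : (⊥ : Ideal A) ≤ _)
    haveI : P.IsPrime := hP.1.1
    let p : PrimeSpectrum A := ⟨P, hP.1.1⟩
    obtain ⟨k, hk⟩ := Groth.L29.SchLocus.exists_mem_support hω p
    rw [(Groth.L29.HomD.evalShiftEquiv ω k).support_eq] at hk
    obtain ⟨i₀, -, hu⟩ := (Groth.L29.SchLocus.cm_iff_existsUnique hω q).1
      ((Groth.L29.SchLocus.cm_stalk_iff j q).1 (hcm _))
    have hki : k = i := (hu k (Module.mem_support_mono hPq hk)).trans (hu i hq).symm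
    have hpV : j p ∈ V := by
      refine Groth.L20.mem_of_dense_of_mem_genericPoints V hVd ((Groth.L20.mem_genericPoints_iff _).2 fun z hz => ?_)
      obtain ⟨z', rfl⟩ := (hz.mem_open j.isOpenEmbedding.isOpen_range ⟨_, rfl⟩ : z ∈ Set.range j)
      have hle : z'.asIdeal ≤ P :=
        (PrimeSpectrum.le_iff_specializes z' p).2 (j.isOpenEmbedding.isInducing.specializes_iff.1 hz)
      exact congrArg j (PrimeSpectrum.ext (le_antisymm hle (hP.2 ⟨z'.isPrime, bot_le⟩ hle)))
    exact not_subsingleton_iff_nontrivial.2 ((hst p k).2 hk) (hgen _ hpV k (hki ▸ hi))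
  · obtain ⟨A, _, j, _, ω, hx, hω, hst⟩ := Groth.L29.SchLocus.exists_chart hK y
    obtain ⟨q, rfl⟩ := hx
    rw [Groth.L29.SchLocus.cm_stalk_iff j q, Groth.L29.SchLocus.cm_iff_existsUnique hω q]
    have hz : ∀ i : ℤ, q ∈ Module.support A (Dual.HD A ω i) → i = -(d : ℤ) := fun i hi => by
      by_contra hne
      exact not_nontrivial_iff_subsingleton.2 (ModuleCat.subsingleton_of_isZero
        ((Groth.L00.Stk.F Y (j q)).map_isZero (hiff.2 h i hne))) ((hst q i).2 hi)
    obtain ⟨i, hi⟩ := Groth.L29.SchLocus.exists_mem_support hω q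
    rw [(Groth.L29.HomD.evalShiftEquiv ω i).support_eq] at hi
    exact ⟨i, hi, fun k hk => (hz k hk).trans (hz i hi).symm⟩

end Groth.L17.RatTrace
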