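import Groth.Agent.L29.DCoh.Cpt.Counit
import Groth.Agent.L06.SupportStalk
import Mathlib.RingTheory.Noetherian.Orzech

/-!
A split monomorphism between isomorphic coherent modules is an isomorphism.
-/

set_option autoImplicit false
set_option linter.style.haveILetI false
set_option backward.isDefEq.respectTransparency false
set_option backward.isDefEq.respectTransparency.types false

universe u

open CategoryTheory CategoryTheory.Limits AlgebraicGeometry

namespace Groth.L17.RatTrace

variable {X : Scheme.{u}} [IsLocallyNoetherian X]

/-- A split epimorphic endomorphism of a coherent module is invertible. -/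
theorem isIso_of_splitEpi_endo {A : X.Modules} (hA : Coh.IsCoh A) (r : A ⟶ A) [IsSplitEpi r] : IsIso r := by
  refine Groth.L29.DC.Cpt.isIso_of_stalks r fun x => ?_
  let F := Groth.L00.Stk.F X x
  haveI : Module.Finite (X.presheaf.stalk x) (F.obj A) := Groth.L06.SupportStalk.finite_stalk A hA x
  haveI : IsNoetherianRing (X.presheaf.stalk x) := inferInstance
  haveI : IsNoetherian (X.presheaf.stalk x) (F.obj A) := isNoetherian_of_isNoetherianRing_of_finite _ _
  have hs : Function.Surjective (F.map r).hom := (ModuleCat.epi_iff_surjective _).1 inferInstance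
  exact (ConcreteCategory.isIso_iff_bijective _).2
    ⟨IsNoetherian.injective_of_surjective_endomorphism _ hs, hs⟩

/-- A split monomorphism of a coherent module into an isomorphic one is invertible. -/
theorem isIso_of_splitMono_iso {A B : X.Modules} (hA : Coh.IsCoh A) (h : A ⟶ B) [IsSplitMono h] (e : B ≅ A) :
    IsIso h := by
  let r := e.inv ≫ retraction h
  haveI : IsSplitEpi r := ⟨⟨⟨h ≫ e.hom, by simp [r]⟩⟩⟩
  haveI := isIso_of_splitEpi_endo hA r
  haveI : IsIso (retraction h) := IsIso.of_isIso_comp_left e.inv (retraction h)
  exact IsIso.of_isIso_fac_right (IsSplitMono.id h)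

end Groth.L17.RatTrace
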