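import Groth.Agent.L17.RatTrace.Affine
import Groth.Agent.L17.RatTrace.BCBelow
import Groth.Agent.L29.BCAdj.AdjBC
import Groth.Agent.L29.BC.Global
import Groth.Agent.L10.ShriekLoc.Core
import Groth.Agent.L17.PushQCoh
import Groth.Agent.L17.BC.Sheaf
import Groth.Agent.L21.Mod.Locality
import Groth.Agent.L18.TildeFunctor
import Groth.Agent.Lead.RpushHD
import Groth.Agent.L29.AdjSquare
import Groth.Agent.L29.Dual.SchUnique
import Groth.Prelude.Def_ClSub2

/-!
The trace at a dualizing complex is invertible iff the unit `O_Y → Rf_* O_X` is.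
-/

set_option autoImplicit false
set_option linter.style.haveILetI false
set_option backward.defeqAttrib.useBackward true
set_option backward.isDefEq.respectTransparency false
set_option backward.isDefEq.respectTransparency.types false

universe u

open CategoryTheory CategoryTheory.Limits AlgebraicGeometry TopologicalSpace Opposite

attribute [local instance] HasDerivedCategory.standard

noncomputable section

namespace Groth.L17.RatTrace

open Groth.L00 Groth.L29 Groth.L29.DC Groth.L29.BCAdj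

/-- A ring map whose target is free of rank one as a module is bijective. -/
theorem bijective_of_semilinear {A B : Type*} [CommRing A] [CommRing B] (φ : A →+* B) (e : B ≃+ A)
    (he : ∀ (a : A) (b : B), e (φ a * b) = a * e b) : Function.Bijective φ := by
  set b₀ := e.symm 1 with hb₀
  have hB : ∀ b, φ (e b) * b₀ = b := fun b => e.injective (by rw [he, hb₀, e.apply_symm_apply, mul_one])
  have h1 : φ (e 1) * b₀ = 1 := hB 1
  have h2 : φ (e 1) * φ (e (b₀ * b₀)) = 1 :=
    calc φ (e 1) * φ (e (b₀ * b₀)) = φ (e 1) * φ (e (b₀ * b₀)) * (φ (e 1) * b₀) := by rw [h1, mul_one]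
      _ = φ (e 1) * φ (e 1) * (φ (e (b₀ * b₀)) * b₀) := mul_mul_mul_comm _ _ _ _
      _ = φ (e 1) * φ (e 1) * (b₀ * b₀) := by rw [hB]
      _ = 1 := by rw [mul_mul_mul_comm, h1, mul_one]
  refine ⟨(injective_iff_map_eq_zero φ).2 fun x hx => ?_, fun b => ?_⟩
  · have := he x b₀
    rw [hx, zero_mul, map_zero, hb₀, e.apply_symm_apply, mul_one] at this
    exact this.symm
  · refine ⟨e b * e (b₀ * b₀), ?_⟩
    calc φ (e b * e (b₀ * b₀)) = φ (e b) * φ (e (b₀ * b₀)) * (φ (e 1) * b₀) := by rw [map_mul, h1, mul_one]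
      _ = φ (e b) * φ (e 1) * (φ (e (b₀ * b₀)) * b₀) := mul_mul_mul_comm _ _ _ _
      _ = φ (e b) * b₀ * (φ (e 1) * φ (e (b₀ * b₀))) := by
        rw [mul_mul_mul_comm, mul_comm (φ (e 1)) b₀, mul_comm (φ (e 1)) (φ (e (b₀ * b₀))), mul_mul_mul_comm]
      _ = b := by rw [h2, mul_one, hB]

variable {X Y : Scheme.{u}} {f : X ⟶ Y}

/-- An isomorphism `f_* O = O` forces `O → f_* O` to be bijective. -/
theorem bijective_app_of_iso (e : (Scheme.Modules.pushforward f).obj (Coh.structureModule X) ≅ Coh.structureModule Y)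
    (W : Y.Opens) : Function.Bijective (f.app W).hom := by
  let eW : Γ(X, f ⁻¹ᵁ W) ≃+ Γ(Y, W) :=
    ((Scheme.Modules.toPresheaf Y).mapIso e).app (op W) |>.addCommGroupIsoToAddEquiv
  exact bijective_of_semilinear (f.app W).hom eW fun a b => e.hom.app_smul (U := W) a b

theorem isIso_unitToPush_iff : IsIso (ClSub.unitToPush f) ↔
    ∀ V : Y.Opens, IsAffineOpen V → Function.Bijective (f.app V).hom := by
  refine ⟨fun h V _ => ?_, fun h => ?_⟩
  · haveI : IsIso (((Scheme.Modules.toPresheaf Y).map (ClSub.unitToPush f)).app (op V)) := inferInstance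
    exact (ConcreteCategory.isIso_iff_bijective (((Scheme.Modules.toPresheaf Y).map (ClSub.unitToPush f)).app (op V))).1
      inferInstance
  · exact Groth.L17.BC.Classes.isIso_of_affine _ fun y => ⟨⊤, trivial, fun V _ hV => h V hV⟩

theorem isIso_unitToPush_restrict (h : IsIso (ClSub.unitToPush f)) (V : Y.Opens) :
    IsIso (ClSub.unitToPush (f ∣_ V)) := by
  refine isIso_unitToPush_iff.2 fun W hW => ?_
  rw [morphismRestrict_app f V W, CommRingCat.hom_comp, RingHom.coe_comp]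
  exact (ConcreteCategory.bijective_of_isIso (X.presheaf.map (eqToHom (image_morphismRestrict_preimage f V W)).op)).comp
    (isIso_unitToPush_iff.1 h _ (hW.image_of_isOpenImmersion V.ι))

variable [DCoh.HasRpush f]

/-- `Rf_* O = O` in terms of the higher direct images. -/
theorem hasPushO_iff [HasInjectiveResolutions X.Modules] :
    HasPushO f ↔ IsIso (ClSub.unitToPush f) ∧ ∀ p : ℕ, 0 < p → IsZero ((Coh.Rpush f p).obj (Coh.structureModule X)) := by
  haveI := Groth.L17.PushQCoh.additive_push f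
  have hR : ∀ p : ℕ, Nonempty (DCoh.HD ((DCoh.Rpush f).obj (OD X)) (p : ℤ) ≅ (Coh.Rpush f p).obj (Coh.structureModule X)) :=
    fun p => Groth.Lead.RpushHD.nonempty_HD_Rpush_inD f (Coh.structureModule X) p
  let e0 := (Scheme.Modules.pushforward f).rightDerivedZeroIsoSelf.app (Coh.structureModule X)
  haveI : ((DCoh.Rpush f).obj (OD X)).IsGE 0 := RpushQC.isGE_Rpush f _ 0
  refine ⟨fun ⟨e⟩ => ?_, fun ⟨hu, hp⟩ => ?_⟩
  · refine ⟨isIso_unitToPush_iff.2 fun V _ => ?_, fun p hp => ?_⟩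
    · obtain ⟨i⟩ := hR 0
      exact bijective_app_of_iso (e0.symm ≪≫ i.symm ≪≫ (DerivedCategory.homologyFunctor Y.Modules 0).mapIso e ≪≫
        (DerivedCategory.singleFunctorCompHomologyFunctorIso Y.Modules 0).app _) V
    · obtain ⟨i⟩ := hR p
      exact IsZero.of_iso ((DerivedCategory.isZero_of_isLE (OD Y) 0 (p : ℤ) (by omega)).of_iso
        ((DerivedCategory.homologyFunctor Y.Modules (p : ℤ)).mapIso e)) i.symm
  · haveI : ((DCoh.Rpush f).obj (OD X)).IsLE 0 := (DerivedCategory.isLE_iff _ _).2 fun i hi => by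
      obtain ⟨p, rfl⟩ : ∃ p : ℕ, i = p := ⟨i.toNat, by omega⟩
      obtain ⟨j⟩ := hR p
      exact (hp p (by omega)).of_iso j
    obtain ⟨M, ⟨m⟩⟩ := DerivedCategory.exists_iso_singleFunctor_obj_of_isGE_of_isLE ((DCoh.Rpush f).obj (OD X)) 0
    obtain ⟨i⟩ := hR 0
    let eM : M ≅ Coh.structureModule Y :=
      ((DerivedCategory.singleFunctorCompHomologyFunctorIso Y.Modules 0).app M).symm ≪≫
        (DerivedCategory.homologyFunctor Y.Modules 0).mapIso m.symm ≪≫ i ≪≫ e0 ≪≫ (asIso (ClSub.unitToPush f)).symm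
    exact ⟨m ≪≫ (DerivedCategory.singleFunctor Y.Modules 0).mapIso eM⟩

omit [DCoh.HasRpush f] in
theorem unit_and_vanishing_local [HasInjectiveResolutions X.Modules]
    [∀ V : Y.Opens, HasInjectiveResolutions (f ⁻¹ᵁ V : Scheme.{u}).Modules] :
    (IsIso (ClSub.unitToPush f) ∧ ∀ p : ℕ, 0 < p → IsZero ((Coh.Rpush f p).obj (Coh.structureModule X))) ↔
      ∀ V : Y.affineOpens, IsIso (ClSub.unitToPush (f ∣_ V.1)) ∧
        ∀ p : ℕ, 0 < p → IsZero ((Coh.Rpush (f ∣_ V.1) p).obj (Coh.structureModule (f ⁻¹ᵁ V.1 : Scheme.{u}))) := by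
  have hr : ∀ (V : Y.Opens) (p : ℕ), Nonempty (((Coh.Rpush f p).obj (Coh.structureModule X)).restrict V.ι ≅
      (Coh.Rpush (f ∣_ V) p).obj (Coh.structureModule (f ⁻¹ᵁ V : Scheme.{u}))) := fun V p => by
    obtain ⟨e⟩ := Groth.L17.PushQCoh.nonempty_Rpush_restrict_iso f V.ι (f ⁻¹ᵁ V).ι (f ∣_ V)
      (by rw [Scheme.Opens.opensRange_ι, Scheme.Opens.opensRange_ι]) (morphismRestrict_ι f V) (Coh.structureModule X) p
    exact ⟨e ≪≫ (Coh.Rpush (f ∣_ V) p).mapIso (Scheme.Modules.restrictUnitIso (f ⁻¹ᵁ V).ι)⟩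
  refine ⟨fun ⟨hu, hp⟩ V => ⟨isIso_unitToPush_restrict hu _, fun p hp0 => ?_⟩,
    fun h => ⟨isIso_unitToPush_iff.2 fun V hV => ?_, fun p hp0 => ?_⟩⟩
  · obtain ⟨e⟩ := hr V.1 p
    exact ((Scheme.Modules.restrictFunctor V.1.ι).map_isZero (hp p hp0)).of_iso e.symm
  · haveI : IsAffine (V : Scheme.{u}) := hV
    have h1 := isIso_unitToPush_iff.1 (h ⟨V, hV⟩).1 ⊤ (isAffineOpen_top (V : Scheme.{u}))
    rw [morphismRestrict_app f V ⊤, CommRingCat.hom_comp, RingHom.coe_comp] at h1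
    have h2 := (Function.Bijective.of_comp_iff'
      (ConcreteCategory.bijective_of_isIso (X.presheaf.map (eqToHom (image_morphismRestrict_preimage f V ⊤)).op)) _).1 h1
    have key : ∀ (W : Y.Opens), W = V → Function.Bijective (f.app W).hom → Function.Bijective (f.app V).hom := by
      rintro _ rfl hW; exact hW
    exact key _ V.ι_image_top h2
  · refine Groth.L21.Mod.isZero_of_restrict (fun V : Y.affineOpens => V.1.ι) (fun y => ?_) _ fun V => ?_
    · obtain ⟨_, ⟨V, hV, rfl⟩, hyV, -⟩ :=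
        Y.isBasis_affineOpens.exists_subset_of_mem_open (Set.mem_univ y) isOpen_univ
      exact ⟨⟨V, hV⟩, ⟨y, hyV⟩, rfl⟩
    · obtain ⟨e⟩ := hr V.1 p
      exact ((h V).2 p hp0).of_iso e

set_option maxHeartbeats 1600000 in
/-- Over an affine open of the base the trace is invertible iff `O → Rf_* O` is. -/
theorem res_trace_iff [IsNoetherian Y] [IsProper f] [HasInjectiveResolutions X.Modules]
    {hf : DCoh.RpushPreservesQCoh f} {a : DCoh.DQCoh Y ⥤ DCoh.DQCoh X} (adj : DCoh.RpushQ f hf ⊣ a)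
    (K : DCoh.DQCoh Y) (hK : Dual2.IsDualizingSch Y K.obj) (V : Y.affineOpens)
    [∀ V : Y.Opens, HasInjectiveResolutions (f ⁻¹ᵁ V : Scheme.{u}).Modules] :
    (IsIso (ClSub.unitToPush (f ∣_ V.1)) ∧
      ∀ p : ℕ, 0 < p → IsZero ((Coh.Rpush (f ∣_ V.1) p).obj (Coh.structureModule (f ⁻¹ᵁ V.1 : Scheme.{u})))) ↔
      IsIso ((Gen.res V.1).map (adj.counit.app K).hom) := by
  haveI := fun {A B : Scheme.{u}} (k : A ⟶ B) => KFlat.hasLpull k
  haveI := fun R : CommRingCat.{u} => Groth.L18.TildeF.tilde_preservesFiniteLimits (R := R)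
  haveI : IsLocallyNoetherian X := LocallyOfFiniteType.isLocallyNoetherian f
  haveI : CompactSpace X := QuasiCompact.compactSpace_of_compactSpace f
  obtain ⟨c, hc⟩ := Groth.L10.ShriekLoc.exists_isGE_dualizing K.obj hK
  let U := V.1
  haveI : IsAffine (U : Scheme.{u}) := V.2
  have hUc : IsCompact (U : Set Y) := V.2.isCompact
  haveI : IsNoetherian (U : Scheme.{u}) :=
    haveI : IsLocallyNoetherian (U : Scheme.{u}) := isLocallyNoetherian_of_isOpenImmersion U.ι
    haveI : CompactSpace (U : Scheme.{u}) := isCompact_iff_compactSpace.1 hUc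
    {}
  haveI : CompactSpace (f ⁻¹ᵁ U : Scheme.{u}) := isCompact_iff_compactSpace.1 (f.isCompact_preimage hUc)
  haveI : QuasiSeparatedSpace (f ⁻¹ᵁ U : Scheme.{u}) := quasiSeparatedSpace_of_quasiSeparated (f ⁻¹ᵁ U).ι
  haveI : QuasiSeparatedSpace X := quasiSeparatedSpace_of_quasiSeparated f
  haveI : QuasiCompact U.ι := Groth.L17.Approx.quasiCompact_ι U hUc
  haveI : QuasiCompact (f ⁻¹ᵁ U).ι := Groth.L17.Approx.quasiCompact_ι _ (f.isCompact_preimage hUc)
  haveI : IsProper (f ∣_ U) := IsZariskiLocalAtTarget.restrict ‹IsProper f› U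
  haveI := RpushQC.hasRpush U.ι
  haveI := RpushQC.hasRpush (f ⁻¹ᵁ U).ι
  haveI := RpushQC.hasRpush (f ∣_ U)
  let hg := Groth.L10.ShriekLoc.isQCohD_push U.ι
  let hg' := Groth.L10.ShriekLoc.isQCohD_push (f ⁻¹ᵁ U).ι
  obtain ⟨a', ⟨adj'⟩⟩ := Groth.L10.ShriekLoc.exists_adjoint (f ∣_ U)
  let hLg : Dual3.LpullPreservesQCoh U.ι := fun _ h => isQCohD_Lpull _ h
  let hLg' : Dual3.LpullPreservesQCoh (f ⁻¹ᵁ U).ι := fun _ h => isQCohD_Lpull _ h
  let adjg := adjQ U.ι hg hLg
  let adjg' := adjQ (f ⁻¹ᵁ U).ι hg' hLg'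
  have hθ := isIso_bcQ (hf := hf) (hf' := Groth.L10.ShriekLoc.isQCohD_push (f ∣_ U)) adjg adjg'
    (BC.BC_flat (isPullback_morphismRestrict f U).flip)
  let e := eQ hf (Groth.L10.ShriekLoc.isQCohD_push (f ∣_ U)) hg hg' (isPullback_morphismRestrict f U).flip.w
  have hξ := fun M => Mate.isIso_xi adj adj' e adjg adjg' hθ M
  let KU := (Dual3.LpullQ U.ι hLg).obj K
  haveI : IsIso (Dual3.bcMap adj adj' e adjg adjg' K (hξ _)) :=
    isIso_bcMap_open_below U hUc adj adj' e adjg adjg' K c hc (hξ _)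
  haveI : IsIso (Dual3.bcPush e adjg adjg' (a.obj K)) := hθ (a.obj K)
  have htr : Dual3.bcPush e adjg adjg' (a.obj K) ≫ (DCoh.RpushQ (f ∣_ U) _).map
      (Dual3.bcMap adj adj' e adjg adjg' K (hξ _)) ≫ adj'.counit.app KU =
      (Dual3.LpullQ U.ι hLg).map (adj.counit.app K) :=
    Groth.L29.AdjSquare.trace_compat adj adj' e adjg adjg' K (hξ _)
  let uV : DCoh.Lpull U.ι ≅ DCoh.restrictD U.ι := (BC.adj U.ι).leftAdjointUniq (Cpt.restrictRpushAdj U.ι)
  have hKU : Dual2.IsDualizingSch (U : Scheme.{u}) KU.obj := fun A _ k _ => by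
    obtain ⟨ω, hω, ⟨i⟩⟩ := Groth.L29.SchUnique.isDualizingSch_restrict U.ι hK A k
    exact ⟨ω, hω, ⟨(DCoh.restrictD k).mapIso (uV.app K.obj) ≪≫ i⟩⟩
  rw [← hasPushO_iff, ← isIso_trace_iff adj' KU hKU]
  change _ ↔ IsIso ((DCoh.restrictD U.ι).map (adj.counit.app K).hom)
  rw [← NatIso.isIso_map_iff uV]
  change _ ↔ IsIso ((ObjectProperty.ι DCoh.IsQCohD).map ((Dual3.LpullQ U.ι hLg).map (adj.counit.app K)))
  rw [← htr]
  refine ⟨fun h => ?_, fun h => ?_⟩
  · haveI : IsIso (adj'.counit.app KU) := by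
      haveI : IsIso ((ObjectProperty.ι DCoh.IsQCohD).map (adj'.counit.app KU)) := h
      exact isIso_of_reflects_iso _ (ObjectProperty.ι DCoh.IsQCohD)
    infer_instance
  · haveI := h
    haveI := isIso_of_reflects_iso (Dual3.bcPush e adjg adjg' (a.obj K) ≫
      (DCoh.RpushQ (f ∣_ U) _).map (Dual3.bcMap adj adj' e adjg adjg' K (hξ _)) ≫ adj'.counit.app KU)
      (ObjectProperty.ι (DCoh.IsQCohD (X := (U : Scheme.{u}))))
    haveI := IsIso.of_isIso_comp_left (Dual3.bcPush e adjg adjg' (a.obj K))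
      ((DCoh.RpushQ (f ∣_ U) _).map (Dual3.bcMap adj adj' e adjg adjg' K (hξ _)) ≫ adj'.counit.app KU)
    haveI : IsIso (adj'.counit.app KU) := IsIso.of_isIso_comp_left ((DCoh.RpushQ (f ∣_ U) _).map
      (Dual3.bcMap adj adj' e adjg adjg' K (hξ _))) (adj'.counit.app KU)
    exact (inferInstance : IsIso ((ObjectProperty.ι DCoh.IsQCohD).map (adj'.counit.app KU)))

set_option maxHeartbeats 1600000 in
/-- The trace at a dualizing complex is invertible iff `O → Rf_* O` is. -/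
theorem isIso_trace_iff_unit [IsNoetherian Y] [IsProper f] [HasInjectiveResolutions X.Modules]
    {hf : DCoh.RpushPreservesQCoh f} {a : DCoh.DQCoh Y ⥤ DCoh.DQCoh X} (adj : DCoh.RpushQ f hf ⊣ a)
    (K : DCoh.DQCoh Y) (hK : Dual2.IsDualizingSch Y K.obj) :
    (IsIso (ClSub.unitToPush f) ∧ ∀ p : ℕ, 0 < p → IsZero ((Coh.Rpush f p).obj (Coh.structureModule X))) ↔
      IsIso ((ObjectProperty.ι DCoh.IsQCohD).map (adj.counit.app K)) := by
  haveI := fun {A B : Scheme.{u}} (k : A ⟶ B) => KFlat.hasLpull k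
  haveI := fun V : Y.Opens => Groth.L17.PushQCoh.hasInjectiveResolutions (f ⁻¹ᵁ V : Scheme.{u})
  haveI := fun R : CommRingCat.{u} => Groth.L18.TildeF.tilde_preservesFiniteLimits (R := R)
  haveI : IsLocallyNoetherian X := LocallyOfFiniteType.isLocallyNoetherian f
  haveI : CompactSpace X := QuasiCompact.compactSpace_of_compactSpace f
  rw [unit_and_vanishing_local]
  have key := res_trace_iff adj K hK
  refine ⟨fun h => Gen.isIso_of_cover _ fun y => ?_, fun h V => (key V).2 ?_⟩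
  · obtain ⟨_, ⟨V, hV, rfl⟩, hyV, -⟩ :=
      Y.isBasis_affineOpens.exists_subset_of_mem_open (Set.mem_univ y) isOpen_univ
    exact ⟨V, hyV, (key ⟨V, hV⟩).1 (h ⟨V, hV⟩)⟩
  · haveI : IsIso (adj.counit.app K).hom := h
    infer_instance

end Groth.L17.RatTrace
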