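import Groth.Agent.L29.BC.ProjQC
import Groth.Agent.L29.BC.Adj
import Groth.Agent.L29.BCAdj.AdjBC
import Groth.Agent.L10.ShriekLoc.EndAffine
import Groth.Agent.L29.DCoh.RHomExists

/-!
If the structure sheaf is a direct summand of its derived direct image, the trace is split surjective.
-/

set_option autoImplicit false
set_option linter.style.haveILetI false
set_option backward.defeqAttrib.useBackward true
set_option backward.isDefEq.respectTransparency false
set_option backward.isDefEq.respectTransparency.types false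

universe u

open CategoryTheory CategoryTheory.Limits AlgebraicGeometry

attribute [local instance] HasDerivedCategory.standard

noncomputable section

namespace Groth.L17.RatTrace

open Groth.L00 Groth.L29 Groth.L29.DC Groth.L29.BCAdj

variable {X Y : Scheme.{u}} {f : X ⟶ Y} [QuasiCompact f] [QuasiSeparated f] [DCoh.HasRpush f] [DCoh.HasLpull f]

omit [QuasiCompact f] [QuasiSeparated f] in
/-- The unit is split mono at retracts of direct images. -/
theorem isSplitMono_unit_of_retract {L : DCoh.D Y} {E : DCoh.D X} (r : Retract L ((DCoh.Rpush f).obj E)) :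
    IsSplitMono ((BC.adj f).unit.app L) := by
  refine ⟨⟨⟨(DCoh.Rpush f).map ((DCoh.Lpull f).map r.i) ≫ (DCoh.Rpush f).map ((BC.adj f).counit.app E) ≫ r.r, ?_⟩⟩⟩
  have h := (BC.adj f).unit.naturality r.i
  simp only [Functor.id_map, Functor.comp_map] at h
  rw [← reassoc_of% h, (BC.adj f).right_triangle_components_assoc]
  exact r.retract

/-- If `O` is a retract of `Rf_* O` then every trace is split epi. -/
theorem isSplitEpi_trace (r : Retract (OD Y) ((DCoh.Rpush f).obj (OD X))) (hq : DCoh.IsQCohD (OD X))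
    {hf : DCoh.RpushPreservesQCoh f} {a : DCoh.DQCoh Y ⥤ DCoh.DQCoh X} (adj : DCoh.RpushQ f hf ⊣ a)
    (K : DCoh.DQCoh Y) : IsSplitEpi ((ObjectProperty.ι DCoh.IsQCohD).map (adj.counit.app K)) := by
  let K' := DerivedCategory.Q.objPreimage K.obj
  let eK : DCoh.toD Y K' ≅ K.obj := DerivedCategory.Q.objObjPreimageIso K.obj
  let M := DerivedCategory.Q.objPreimage ((DCoh.Lpull f).obj (DCoh.toD Y K'))
  haveI := KFlat.hasLTensorCx K'
  haveI := KFlat.hasLTensorCx M
  obtain ⟨t⟩ := Groth.L10.ShriekLoc.nonempty_LTensor_OD_shift (X := Y) K' 0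
  let eO : (DCoh.LTensorCx K').obj (OD Y) ≅ K.obj :=
    (DCoh.LTensorCx K').mapIso ((shiftFunctorZero (DCoh.D Y) ℤ).app (OD Y)).symm ≪≫ t ≪≫
      (shiftFunctorZero (DCoh.D Y) ℤ).app _ ≪≫ eK
  obtain ⟨p⟩ := BC.ProjQC.nonempty_projection (f := f) (OD X) hq K'
    (isQCohD_of_iso eK.symm K.property) M ⟨DerivedCategory.Q.objObjPreimageIso _⟩
  haveI := isSplitMono_unit_of_retract (f := f)
    (((Retract.ofIso eO.symm).trans (r.map (DCoh.LTensorCx K'))).trans (Retract.ofIso p))
  let c := (BC.adj f).unit.app K.obj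
  let P : DCoh.DQCoh X := ⟨(DCoh.Lpull f).obj K.obj, isQCohD_Lpull f K.property⟩
  let ψ : P ⟶ a.obj K := adj.homEquiv P K (ObjectProperty.homMk (retraction c))
  refine ⟨⟨⟨c ≫ (DCoh.Rpush f).map ψ.hom, ?_⟩⟩⟩
  have h : (DCoh.RpushQ f hf).map ψ ≫ adj.counit.app K = ObjectProperty.homMk (retraction c) :=
    (Adjunction.homEquiv_counit adj P K ψ).symm.trans (Equiv.symm_apply_apply (adj.homEquiv P K) _)
  have h' : (DCoh.Rpush f).map ψ.hom ≫ (adj.counit.app K).hom = retraction c := congrArg (·.hom) h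
  exact (Category.assoc _ _ _).trans ((congrArg (c ≫ ·) h').trans (IsSplitMono.id c))

end Groth.L17.RatTrace
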