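import Groth.Agent.L17.RatTrace.Birat
import Groth.Agent.L17.RatTrace.Split
import Groth.Agent.L29.Dual.SchStalk
import Groth.Agent.L04.LC.LowestDegree
import Groth.Agent.L04.CMBasic
import Groth.Agent.L19.Ass.Basic
import Groth.Agent.L10.FMBC.Basic
import Groth.Agent.L10.DerTrunc

/-!
Pseudo-rational modifications between Cohen–Macaulay schemes: `O → Rf_* O` splits.
-/

set_option autoImplicit false
set_option linter.style.haveILetI false
set_option backward.defeqAttrib.useBackward true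
set_option backward.isDefEq.respectTransparency false
set_option backward.isDefEq.respectTransparency.types false

universe u

open CategoryTheory CategoryTheory.Limits CategoryTheory.Pretriangulated AlgebraicGeometry TopologicalSpace Opposite

attribute [local instance] HasDerivedCategory.standard

noncomputable section

namespace Groth.L17.RatTrace

open Groth.L00 Groth.L29 Groth.L29.DC Groth.L29.BCAdj

/-- Associated points of a dualizing module lie in every dense open. -/
theorem mem_of_ass {Z : Scheme.{u}} [IsLocallyNoetherian Z]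
    [∀ (U : Scheme.{u}) (j : U ⟶ Z) [IsOpenImmersion j], PreservesFiniteLimits (Scheme.Modules.restrictFunctor j)]
    [∀ (R : CommRingCat.{u}), PreservesFiniteLimits (tilde.functor R)] {K : DCoh.D Z} (hK : Dual2.IsDualizingSch Z K)
    (m : ℤ) (hKd : ∀ i : ℤ, i ≠ m → IsZero (DCoh.HD K i)) (O : Z.Opens) (hO : Dense (O : Set Z)) {z : Z}
    (hz : z ∈ AssSch.Ass (DCoh.HD K m)) : z ∈ O := by
  by_contra hzO
  obtain ⟨y, hyz, hne⟩ : ∃ y, y ⤳ z ∧ y ≠ z := by
    by_contra h
    push Not at h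
    exact hzO (Groth.L20.mem_of_dense_of_mem_genericPoints O hO ((Groth.L20.mem_genericPoints_iff _).2 h))
  obtain ⟨Q, rfl⟩ : y ∈ Set.range (Z.fromSpecStalk z) := Scheme.range_fromSpecStalk.ge hyz
  let B := Z.presheaf.stalk z
  obtain ⟨ω, hω, he⟩ := Groth.L29.SchStalk.exists_stalk hK z
  haveI := hω.isNoetherianRing
  have hsub : ∀ i : ℤ, i ≠ m → Subsingleton (Dual.HD B ω i) := fun i hi => by
    obtain ⟨e⟩ := he i
    haveI := ModuleCat.isZero_iff_subsingleton.1 ((PCStalk.isZero_HD_iff_stk K i).1 (hKd i hi) z)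
    exact e.symm.toEquiv.subsingleton
  obtain ⟨P, hP, hPQ⟩ := Ideal.exists_minimalPrimes_le (J := Q.asIdeal) (bot_le : (⊥ : Ideal B) ≤ _)
  haveI : P.IsPrime := hP.1.1
  let p : PrimeSpectrum B := ⟨P, hP.1.1⟩
  have hdim : Groth.L29.HomD.dimFun hω p = -m := by
    obtain ⟨k, hk⟩ := Groth.L29.SchLocus.exists_mem_support hω p
    rw [(Groth.L29.HomD.evalShiftEquiv ω k).support_eq] at hk
    have hnt : Nontrivial (LocalizedModule p.asIdeal.primeCompl (Dual.HD B ω k)) := Module.mem_support_iff.1 hk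
    have hkm : k = m := by
      by_contra hkm
      haveI := hsub k hkm
      rw [Module.support_eq_empty] at hk
      exact hk
    subst hkm
    rw [← not_subsingleton_iff_nontrivial] at hnt
    rw [← Groth.L29.HomD.lz_iff, Groth.L29.HomD.not_lz_HD_iff hω p hP k] at hnt
    omega
  let c : PrimeSpectrum B := IsLocalRing.closedPoint B
  have hpc : p < c := by
    refine lt_of_le_of_ne (IsLocalRing.le_maximalIdeal hP.1.1.ne_top) fun h => hne ?_
    have hQ : Q = c := PrimeSpectrum.ext (le_antisymm (IsLocalRing.le_maximalIdeal Q.isPrime.ne_top)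
      (h ▸ hPQ : c.asIdeal ≤ Q.asIdeal))
    rw [hQ]
    exact Scheme.fromSpecStalk_closedPoint
  have hlt := Groth.L29.HomD.dimFun_strictAnti hω hpc
  have h1 := Groth.L04.Lowest.le_depth hω m (fun j hj => hsub j hj.ne) c 1 (by omega) (by push_cast; omega)
  have hu : ∀ x : c.asIdeal.primeCompl, IsUnit (x : B) := fun x => IsLocalRing.notMem_maximalIdeal.1 x.2
  have hbij : Function.Bijective (LocalizedModule.mkLinearMap c.asIdeal.primeCompl (Dual.HD B ω m)) := by
    refine ⟨fun a b h => ?_, fun x => ?_⟩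
    · obtain ⟨s, hs⟩ := (IsLocalizedModule.eq_iff_exists c.asIdeal.primeCompl _).1 h
      exact (hu s).smul_left_cancel.1 hs
    · induction x using LocalizedModule.induction_on with
      | _ a s =>
        refine ⟨(↑(hu s).unit⁻¹ : B) • a, ?_⟩
        rw [LocalizedModule.mkLinearMap_apply, LocalizedModule.mk_eq]
        exact ⟨1, by simp [Submonoid.smul_def, smul_smul]⟩
  let E : L02.FibDepth.Semi B (Dual.HD B ω m) (Localization.AtPrime c.asIdeal)
      (LocalizedModule c.asIdeal.primeCompl (Dual.HD B ω m)) :=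
    { φ := algebraMap B _
      surj := (IsLocalization.atUnits B c.asIdeal.primeCompl (S := Localization.AtPrime c.asIdeal) fun x hx =>
        hu ⟨x, hx⟩).surjective
      e := AddEquiv.ofBijective (LocalizedModule.mkLinearMap c.asIdeal.primeCompl _).toAddMonoidHom hbij
      map_smul := fun r x => by
        simp only [AddEquiv.ofBijective_apply, LinearMap.toAddMonoidHom_coe, map_smul, algebraMap_smul] }
  rw [← E.depth_eq] at h1
  obtain ⟨e⟩ := he m
  have hass : IsLocalRing.maximalIdeal B ∈ associatedPrimes B (Dual.HD B ω m) :=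
    (LinearEquiv.isAssociatedPrime_iff e).1 ((Groth.L19.Ass.mem_iff _ z).1 hz)
  haveI := hω.finite_cohomology m
  have h2 := Groth.L04.depth_le_ringKrullDim_quotient hass
  letI := Ideal.Quotient.field (IsLocalRing.maximalIdeal B)
  rw [ringKrullDim_eq_zero_of_field] at h2
  have h3 : LocCoh.depth B (Dual.HD B ω m) ≤ 0 := WithBot.coe_le_coe.1 h2
  exact absurd (h1.trans h3) (by simp)

/-- Sections vanishing on an open containing the associated points vanish. -/
theorem eq_zero_of_res_eq_zero {Z : Scheme.{u}} [IsLocallyNoetherian Z] (G : Z.Modules) [Coh.IsQCoh G] (O : Z.Opens)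
    (hO : ∀ z ∈ AssSch.Ass G, z ∈ O) (W : Z.Opens) (s : Γ(G, W))
    (hs : G.presheaf.map (homOfLE (inf_le_left : W ⊓ O ≤ W)).op s = 0) : s = 0 := by
  refine TopCat.Presheaf.section_ext ⟨G.presheaf, G.isSheaf⟩ W s 0 fun x hx => ?_
  obtain ⟨V, hV, hxV, hVW⟩ := exists_isAffineOpen_mem_and_subset (x := x) (U := W) hx
  let t : Γ(G, V) := G.presheaf.map (homOfLE (fun y hy => hVW hy : V ≤ W)).op s
  suffices ht : t = 0 by
    have h := TopCat.Presheaf.germ_res_apply G.presheaf (homOfLE (fun y hy => hVW hy : V ≤ W)) x hxV s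
    change G.presheaf.germ V x hxV t = _ at h
    rw [ht, map_zero] at h
    exact h.symm.trans (map_zero _).symm
  by_contra ht
  haveI := IsLocallyNoetherian.component_noetherian ⟨V, hV⟩
  obtain ⟨q, hq, hle⟩ := exists_le_isAssociatedPrime_of_isNoetherianRing (R := Γ(Z, V)) t ht
  haveI := hq.isPrime
  have hyV : hV.fromSpec ⟨q, hq.isPrime⟩ ∈ V := hV.opensRange_fromSpec.le ⟨_, rfl⟩
  let y := hV.fromSpec ⟨q, hq.isPrime⟩
  have hqy : hV.primeIdealOf ⟨y, hyV⟩ = ⟨q, hq.isPrime⟩ :=
    hV.fromSpec.isOpenEmbedding.injective (hV.fromSpec_primeIdealOf _)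
  have hyA : y ∈ AssSch.Ass G := (Groth.L19.Ass.mem_iff_of_affine G hV hyV).2 (by rw [hqy]; exact hq)
  have hyW : y ∈ W ⊓ O := ⟨hVW hyV, hO y hyA⟩
  have hg : G.presheaf.germ V y hyV t = 0 := by
    have h0 : G.presheaf.germ W y hyW.1 s = 0 := by
      have h := TopCat.Presheaf.germ_res_apply G.presheaf (homOfLE (inf_le_left : W ⊓ O ≤ W)) y hyW s
      rw [hs, map_zero] at h
      exact h.symm
    exact (TopCat.Presheaf.germ_res_apply G.presheaf (homOfLE (fun y hy => hVW hy : V ≤ W)) y hyV s).trans h0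
  letI := Groth.L20.ModStalk.stalkModule G hyV
  haveI := Groth.L20.ModStalk.isLocalizedModule_germ G hV hyV
  obtain ⟨c, hc⟩ := (IsLocalizedModule.eq_zero_iff (hV.primeIdealOf ⟨y, hyV⟩).asIdeal.primeCompl
    (Groth.L20.ModStalk.germₗ G hyV)).1 hg
  refine c.2 (?_ : (c : Γ(Z, V)) ∈ (hV.primeIdealOf ⟨y, hyV⟩).asIdeal)
  have hc' : (c : Γ(Z, V)) ∈ q := hle (Submodule.mem_colon_singleton.2 (by simpa [Submonoid.smul_def] using hc))
  exact (SetLike.ext_iff.1 (congrArg PrimeSpectrum.asIdeal hqy) _).2 hc'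

variable {X Y : Scheme.{u}} {f : X ⟶ Y} [DCoh.HasRpush f]
  [IsNoetherian Y] [IsProper f] [HasInjectiveResolutions X.Modules]
  [∀ (U : Scheme.{u}) (j : U ⟶ Y) [IsOpenImmersion j], PreservesFiniteLimits (Scheme.Modules.restrictFunctor j)]
  [∀ (R : CommRingCat.{u}), PreservesFiniteLimits (tilde.functor R)]
  {hf : DCoh.RpushPreservesQCoh f} {a : DCoh.DQCoh Y ⥤ DCoh.DQCoh X} (adj : DCoh.RpushQ f hf ⊣ a)
  (K : DCoh.DQCoh Y)

/-- A surjective trace in the degree of the dualizing complexes splits. -/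
theorem isSplitEpi_trace_of_epi (hK : Dual2.IsDualizingSch Y K.obj) (V : Y.Opens) (hV : IsIso (f ∣_ V))
    (hVX : Dense ((f ⁻¹ᵁ V : X.Opens) : Set X)) (hcm : ∀ x : X, LocCoh.IsCohenMacaulayLocalRing (X.presheaf.stalk x))
    (d : ℕ) (hKd : ∀ i : ℤ, i ≠ -(d : ℤ) → IsZero (DCoh.HD K.obj i))
    (hepi : Epi ((DerivedCategory.homologyFunctor Y.Modules (-(d : ℤ))).map
      ((ObjectProperty.ι DCoh.IsQCohD).map (adj.counit.app K)))) :
    IsSplitEpi ((ObjectProperty.ι DCoh.IsQCohD).map (adj.counit.app K)) := by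
  haveI : IsLocallyNoetherian X := LocallyOfFiniteType.isLocallyNoetherian f
  haveI := fun R : CommRingCat.{u} => Groth.L18.TildeF.tilde_preservesFiniteLimits (R := R)
  let m := -(d : ℤ)
  have hKX := Groth.L10.ShriekLoc.isDualizingSch_shriek adj K hK
  have hX : ∀ i : ℤ, i ≠ m → IsZero (DCoh.HD (a.obj K).obj i) := fun i hi =>
    isZero_HD_of_dense hKX hcm (f ⁻¹ᵁ V) hVX m
      (fun z hz i hi => subsingleton_stalk_over adj K hK V hV m hKd z hz i hi) i hi
  obtain ⟨hlow, hhigh⟩ := exists_HD_Rpush_single (f := f) (a.obj K).obj d hX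
  let ωX := DCoh.HD (a.obj K).obj m
  haveI : Coh.IsQCoh ωX := (a.obj K).property _
  let R : DCoh.D Y := (DCoh.Rpush f).obj (a.obj K).obj
  let T : R ⟶ K.obj := (ObjectProperty.ι DCoh.IsQCohD).map (adj.counit.app K)
  haveI := Groth.L17.PushQCoh.additive_push f
  obtain ⟨e₀⟩ : Nonempty (DCoh.HD R m ≅ (Scheme.Modules.pushforward f).obj ωX) := by
    obtain ⟨e⟩ := hhigh 0
    exact ⟨eqToIso (by simp [m, R]) ≪≫ e ≪≫ (Scheme.Modules.pushforward f).rightDerivedZeroIsoSelf.app ωX⟩
  obtain ⟨C, b, δ, hT⟩ := distinguished_cocone_triangle T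
  have hC : ∀ (y : Y), y ∈ V → ∀ i : ℤ, Subsingleton ((DCoh.HD C i).presheaf.stalk y) := fun y hy i => by
    obtain ⟨_, ⟨U₀, hU₀, rfl⟩, hyU, hUV⟩ := Y.isBasis_affineOpens.exists_subset_of_mem_open hy V.2
    let U : Y.Opens := U₀
    have hz : IsZero ((DCoh.restrictD U.ι).obj C) :=
      (Triangle.isZero₃_iff_isIso₁ _ ((DCoh.restrictD U.ι).map_distinguished _ hT)).2
        (isIso_res_trace adj K hK V hV ⟨U, hU₀⟩ hUV)
    have h1 := (Groth.L00.Stk.F (U : Scheme.{u}) ⟨y, hyU⟩).map_isZero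
      (((DerivedCategory.homologyFunctor _ i).map_isZero hz).of_iso (HDResIso U.ι C i).symm)
    exact @Equiv.subsingleton _ _
      (((Scheme.Modules.restrictStalkNatIso U.ι ⟨y, hyU⟩).app (DCoh.HD C i)).symm.addCommGroupIsoToAddEquiv.toEquiv)
      (ModuleCat.subsingleton_of_isZero h1)
  haveI : Mono ((DerivedCategory.homologyFunctor Y.Modules m).map T) := by
    refine (DerivedCategory.HomologySequence.mono_homologyMap_mor₁_iff _ hT (m - 1) m (by omega)).2 ?_
    refine Scheme.Modules.hom_ext _ _ fun W => ?_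
    ext x
    let δ' := DerivedCategory.HomologySequence.δ (Triangle.mk T b δ) (m - 1) m (by omega)
    let y : Γ(DCoh.HD R m, W) := δ'.app W x
    change y = 0
    let i : (Scheme.Modules.toPresheaf Y).obj (DCoh.HD R m) ≅
        (Scheme.Modules.toPresheaf Y).obj ((Scheme.Modules.pushforward f).obj ωX) :=
      (Scheme.Modules.toPresheaf Y).mapIso e₀
    refine (i.app (op W)).addCommGroupIsoToAddEquiv.injective ?_
    rw [map_zero]
    refine eq_zero_of_res_eq_zero ωX (f ⁻¹ᵁ V) (fun z hz => mem_of_ass hKX m hX _ hVX hz) (f ⁻¹ᵁ W) _ ?_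
    have hx0 : (DCoh.HD C (m - 1)).presheaf.map (homOfLE (inf_le_left : W ⊓ V ≤ W)).op x = 0 := by
      refine TopCat.Presheaf.section_ext ⟨_, (DCoh.HD C (m - 1)).isSheaf⟩ _ _ _ fun z hz => ?_
      exact @Subsingleton.elim _ (hC z hz.2 _) _ _
    have hy0 : (DCoh.HD R m).presheaf.map (homOfLE (inf_le_left : W ⊓ V ≤ W)).op y = 0 := by
      have h := (ConcreteCategory.congr_hom (δ'.mapPresheaf.naturality (homOfLE (inf_le_left : W ⊓ V ≤ W)).op) x).symm
      exact h.trans ((congrArg (ConcreteCategory.hom (δ'.app (W ⊓ V))) hx0).trans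
        (map_zero (ConcreteCategory.hom (δ'.app (W ⊓ V)))))
    have h := ConcreteCategory.congr_hom (i.hom.naturality (homOfLE (inf_le_left : W ⊓ V ≤ W)).op) y
    exact h.symm.trans ((congrArg (ConcreteCategory.hom (i.hom.app (op (W ⊓ V)))) hy0).trans
      (map_zero (ConcreteCategory.hom (i.hom.app (op (W ⊓ V))))))
  haveI := hepi
  haveI : IsIso ((DerivedCategory.homologyFunctor Y.Modules m).map T) := isIso_of_mono_of_epi _
  haveI : R.IsGE m := (DerivedCategory.isGE_iff _ _).2 hlow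
  let ι := ((DerivedCategory.TStructure.t (C := Y.Modules)).truncLTι (m + 1)).app R
  haveI : IsIso (ι ≫ T) := by
    rw [DerivedCategory.isIso_iff]
    intro i
    rcases eq_or_ne i m with rfl | hne
    · haveI := Groth.L10.isIso_H_ι (m + 1) m (by omega) R
      rw [Functor.map_comp]
      infer_instance
    · refine isIso_of_source_target_iso_zero _ (IsZero.isoZero ?_) (hKd i hne).isoZero
      rcases lt_or_gt_of_ne hne with h | h
      · haveI := Groth.L10.isIso_H_ι (m + 1) i (by omega) R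
        exact (DerivedCategory.isZero_of_isGE R m i h).of_iso
          (asIso ((DerivedCategory.homologyFunctor Y.Modules i).map ι))
      · exact Groth.L10.isZero_H_LT (m + 1) i (by omega) R
  exact ⟨⟨⟨inv (ι ≫ T) ≫ ι, by rw [Category.assoc, IsIso.inv_hom_id]⟩⟩⟩

omit [HasInjectiveResolutions X.Modules] [IsProper f] in
/-- If the trace at a dualizing complex splits, `O` is a retract of a derived direct image. -/
theorem exists_retract_of_isSplitEpi [DCoh.HasLpull f] (hK : Dual2.IsDualizingSch Y K.obj)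
    (hs : IsSplitEpi ((ObjectProperty.ι DCoh.IsQCohD).map (adj.counit.app K))) :
    ∃ E : DCoh.D X, Nonempty (Retract (OD Y) ((DCoh.Rpush f).obj E)) := by
  haveI := hs
  let T := (ObjectProperty.ι DCoh.IsQCohD).map (adj.counit.app K)
  obtain ⟨L, q, hL, -, hq, -⟩ := Groth.L00.KFlat.exists_resolution (DerivedCategory.Q.objPreimage K.obj)
  haveI := (DerivedCategory.isIso_Q_map_iff_quasiIso _ q).2 hq
  let eL : DCoh.toD Y L ≅ K.obj⟦(0 : ℤ)⟧ :=
    asIso (DerivedCategory.Q.map q) ≪≫ DerivedCategory.Q.objObjPreimageIso K.obj ≪≫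
      ((shiftFunctorZero (DCoh.D Y) ℤ).app _).symm
  haveI := KFlat.hasLTensorCx L
  haveI := RHom.hasRSheafHom L
  let M := (DC.Proj.pullCx f).obj L
  haveI := KFlat.hasLTensorCx M
  haveI := RHom.hasRSheafHom M
  obtain ⟨n⟩ := Groth.L29.SchUnique.nonempty_RHom_shift hK 0 L eL
  obtain ⟨τ⟩ := Groth.L10.FMBC.nonempty_pullTensorD f L hL
  let A₁ := (DCoh.RSheafHomAdj L).comp (BC.adj f)
  let A₂ := ((BC.adj f).comp (DCoh.RSheafHomAdj M)).ofNatIsoLeft τ.symm
  let c : DCoh.Rpush f ⋙ DCoh.RSheafHom L ≅ DCoh.RSheafHom M ⋙ DCoh.Rpush f := A₁.rightAdjointUniq A₂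
  let r : Retract K.obj ((DCoh.Rpush f).obj (a.obj K).obj) :=
    { i := section_ T
      r := T
      retract := IsSplitEpi.id T }
  let eO : OD Y ≅ (DCoh.RSheafHom L).obj K.obj :=
    (n ≪≫ eqToIso (by rw [neg_zero]) ≪≫ (shiftFunctorZero (DCoh.D Y) ℤ).app (OD Y)).symm
  exact ⟨_, ⟨((Retract.ofIso eO).trans (r.map (DCoh.RSheafHom L))).trans (Retract.ofIso (c.app (a.obj K).obj))⟩⟩

end Groth.L17.RatTrace
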